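import Mathlib.RingTheory.DedekindDomain.PID
import Mathlib.RingTheory.DedekindDomain.Dvr
import Mathlib.RingTheory.Flat.TorsionFree
import Mathlib.RingTheory.RingHom.FaithfullyFlat
import Mathlib.RingTheory.Spectrum.Prime.Topology
import Mathlib.Algebra.Polynomial.Laurent
import Mathlib.RingTheory.Polynomial.Basic

/-!
# Faithful flatness of integral injective maps out of Dedekind domains
-/

set_option autoImplicit false
universe u
open scoped LaurentPolynomial

namespace K844.FFlat

theorem of_integral_injective {A B : Type u} [CommRing A] [IsDedekindDomain A] [CommRing B]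
    [IsDomain B] (f : A →+* B) (hi : Function.Injective f) (hint : f.IsIntegral) :
    f.FaithfullyFlat := by
  rw [RingHom.FaithfullyFlat.iff_flat_and_comap_surjective]
  refine ⟨?_, hint.comap_surjective hi⟩
  algebraize [f]
  have : Module.IsTorsionFree A B := by
    have : FaithfulSMul A B := (faithfulSMul_iff_algebraMap_injective A B).2 hi
    infer_instance
  change Module.Flat A B
  infer_instance

theorem isIntegralElem_pow {A B : Type*} [CommRing A] [CommRing B] (f : A →+* B) {x : B}
    (hx : f.IsIntegralElem x) (n : ℕ) : f.IsIntegralElem (x ^ n) := by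
  induction n with
  | zero => rw [pow_zero]; exact f.isIntegralElem_one
  | succ n ih => rw [pow_succ]; exact ih.mul _ hx

theorem aeval_poly {K : Type u} [Field K] (P : Polynomial K) (hP : P.Monic) (hn : 0 < P.natDegree) :
    (Polynomial.aeval P : Polynomial K →ₐ[K] Polynomial K).toRingHom.FaithfullyFlat := by
  apply of_integral_injective
  · rw [injective_iff_map_eq_zero]
    intro q hq
    change Polynomial.aeval P q = 0 at hq
    have h1 : q.comp P = 0 := hq
    rw [Polynomial.comp_eq_zero_iff] at h1
    rcases h1 with h1 | ⟨-, h1⟩
    · exact h1
    · rw [h1, Polynomial.natDegree_C] at hn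
      exact absurd hn (lt_irrefl 0)
  · have hC : ∀ a : K, (Polynomial.aeval P : Polynomial K →ₐ[K] Polynomial K).toRingHom.IsIntegralElem
        (Polynomial.C a) := by
      intro a
      have := (Polynomial.aeval P : Polynomial K →ₐ[K] Polynomial K).toRingHom.isIntegralElem_map (x := Polynomial.C a)
      have h2 : (Polynomial.aeval P : Polynomial K →ₐ[K] Polynomial K).toRingHom (Polynomial.C a) = Polynomial.C a := by
        change Polynomial.aeval P (Polynomial.C a) = _
        rw [Polynomial.aeval_C]; rfl
      rwa [h2] at this
    have hX : (Polynomial.aeval P : Polynomial K →ₐ[K] Polynomial K).toRingHom.IsIntegralElem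
        (Polynomial.X) := by
      refine ⟨P.map Polynomial.C - Polynomial.C Polynomial.X, ?_, ?_⟩
      · apply (hP.map Polynomial.C).sub_of_left
        rw [Polynomial.degree_C Polynomial.X_ne_zero, hP.degree_map, 
          Polynomial.degree_eq_natDegree hP.ne_zero]
        exact_mod_cast hn
      · rw [Polynomial.eval₂_sub, Polynomial.eval₂_C, Polynomial.eval₂_map]
        have h1 : ((Polynomial.aeval P : Polynomial K →ₐ[K] Polynomial K).toRingHom).comp Polynomial.C =
          Polynomial.C := by
          ext a
          change (Polynomial.aeval P (Polynomial.C a)).coeff _ = _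
          rw [Polynomial.aeval_C]; rfl
        have h2 : (Polynomial.aeval P : Polynomial K →ₐ[K] Polynomial K).toRingHom Polynomial.X = P := by
          change Polynomial.aeval P Polynomial.X = _
          rw [Polynomial.aeval_X]
        rw [h1, h2, Polynomial.eval₂_C_X, sub_self]
    intro q
    induction q using Polynomial.induction_on with
    | C a => exact hC a
    | add p q hp hq => exact hp.add _ hq
    | monomial n a _ => 
      apply RingHom.IsIntegralElem.mul _ (hC a)
      exact isIntegralElem_pow _ hX _

theorem laurent_dedekind (K : Type u) [Field K] : IsDedekindDomain (K[T;T⁻¹]) := by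
  apply IsLocalization.isDedekindDomain (Polynomial K) (M := Submonoid.powers (Polynomial.X : Polynomial K))
  exact powers_le_nonZeroDivisors_of_noZeroDivisors Polynomial.X_ne_zero

/-- the endomorphism of the group algebra of `ℤ` given by multiplication by `n`. -/
noncomputable abbrev powAlg (K : Type u) [Field K] (n : ℕ) :
    MonoidAlgebra K (Multiplicative ℤ) →ₐ[K] MonoidAlgebra K (Multiplicative ℤ) :=
  MonoidAlgebra.mapDomainAlgHom K K (powMonoidHom n : Multiplicative ℤ →* Multiplicative ℤ)

theorem powAlg_faithfullyFlat (K : Type u) [Field K] (n : ℕ) (hn : 0 < n) :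
    (powAlg K n).toRingHom.FaithfullyFlat := by
  have := laurent_dedekind K
  let e : K[T;T⁻¹] ≃ₐ[K] MonoidAlgebra K (Multiplicative ℤ) :=
    AddMonoidAlgebra.toMultiplicativeAlgEquiv K K ℤ
  have h1 : ((powAlg K n).toRingHom.comp (e.toAlgHom.toRingHom)).FaithfullyFlat := by
    apply of_integral_injective
    · refine Function.Injective.comp (g := powAlg K n) ?_ e.injective
      apply MonoidAlgebra.mapDomain_injective
      intro a b hab
      have : (a.toAdd) * n = b.toAdd * n := by
        have h := congrArg Multiplicative.toAdd hab
        simp only [powMonoidHom_apply, toAdd_pow, nsmul_eq_mul] at h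
        linarith
      have h2 : a.toAdd = b.toAdd := mul_right_cancel₀ (by exact_mod_cast hn.ne') this
      exact Multiplicative.toAdd.injective h2
    · have hs : ∀ k : Multiplicative ℤ, ((powAlg K n).toRingHom.comp (e.toAlgHom.toRingHom)).IsIntegralElem
          (MonoidAlgebra.single k (1 : K)) := by
        intro k
        refine ⟨Polynomial.X ^ n - Polynomial.C (e.symm (MonoidAlgebra.single k (1 : K))),
          Polynomial.monic_X_pow_sub_C _ hn.ne', ?_⟩
        rw [Polynomial.eval₂_sub, Polynomial.eval₂_pow, Polynomial.eval₂_X, Polynomial.eval₂_C]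
        change (MonoidAlgebra.single k (1 : K)) ^ n - powAlg K n (e (e.symm _)) = 0
        rw [e.apply_symm_apply, MonoidAlgebra.single_pow, one_pow]
        simp
      have hC : ∀ a : K, ((powAlg K n).toRingHom.comp (e.toAlgHom.toRingHom)).IsIntegralElem
          (algebraMap K (MonoidAlgebra K (Multiplicative ℤ)) a) := by
        intro a
        have h3 : ((powAlg K n).toRingHom.comp (e.toAlgHom.toRingHom)) (algebraMap K _ a) =
            algebraMap K (MonoidAlgebra K (Multiplicative ℤ)) a := by
          change powAlg K n (e (algebraMap K _ a)) = _
          rw [AlgEquiv.commutes, AlgHom.commutes]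
        rw [← h3]
        exact RingHom.isIntegralElem_map _
      intro x
      induction x using MonoidAlgebra.induction_on with
      | of k => exact hs k
      | add f g hf hg => exact hf.add _ hg
      | smul r f hf =>
        rw [Algebra.smul_def]
        exact (hC r).mul _ hf
  have h2 : (powAlg K n).toRingHom = ((powAlg K n).toRingHom.comp (e.toAlgHom.toRingHom)).comp
      (e.symm.toAlgHom.toRingHom) := by
    ext x <;> simp
  rw [h2]
  exact RingHom.FaithfullyFlat.stableUnderComposition _ _
    (RingHom.FaithfullyFlat.of_bijective e.symm.bijective) h1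

end K844.FFlat
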