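import Groth.Agent.BddFin.K844.FinSub
import Groth.Agent.Books.AffBridge2
import Groth.Agent.BddFin.K844.FFlat

/-!
# Finite subgroup schemes of the additive and multiplicative groups over a field, part 2
-/

set_option autoImplicit false
universe u
open CategoryTheory MonoidalCategory CartesianMonoidalCategory MonObj GrpObj AlgebraicGeometry Limits
open scoped TensorProduct Polynomial

namespace K844.FinSub

open Groth.Agent.Books.AffBridge Groth.Agent.Books.AffBridge2 Groth.Agent.Sga3B.DSPts Groth.Agent.Sga3B.GaPts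
  Groth.Agent.Sga3B.AffPts Groth.Agent.Sga3B.DSAff Groth.Agent.Sga3B.RootHomDict

variable {K : Type u} [Field K]

local notation "S" => Spec (CommRingCat.of K)

/-- coordinate of `𝔾_a` -/
noncomputable def gaC : Coord (K := K) (Red.Ga (Spec (CommRingCat.of K))) where
  v := fun t => Red.gaFn t
  nat := fun h t => gaFn_comp h t
  inj := fun {T} _ _ h => gaFn_injective T h

theorem isClosedImmersion_left {G H : Over (Spec (CommRingCat.of K))} (i : H ⟶ G) [Mono i]
    [IsFinite H.hom] [IsSeparated G.hom] : IsClosedImmersion i.left := by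
  rw [IsClosedImmersion.iff_isFinite_and_mono]
  have h1 : IsFinite (i.left ≫ G.hom) := by rw [Over.w]; infer_instance
  exact ⟨IsFinite.of_comp i.left G.hom, inferInstance⟩

/-- surjectivity from a closed immersion -/
theorem surjective_of_closed {G H : Over (Spec (CommRingCat.of K))} [IsAffine H.left] (i : H ⟶ G)
    [IsClosedImmersion i.left] {A : Type u} [CommRing A] [Algebra K A] (e : G ⟶ SpecOver K A)
    [IsIso e] (f : A →ₐ[K] Fn H) (hf : i ≫ e = affPt H f) : Function.Surjective f := by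
  rw [← isClosedImmersion_specMap_iff]
  have h1 : specMap K f = inv (toSpecFn H) ≫ i ≫ e := by
    rw [hf, affPt, IsIso.inv_hom_id_assoc]
  have h2 : IsIso e.left := inferInstanceAs (IsIso ((Over.forget _).map e))
  have h3 : IsIso (inv (toSpecFn H)).left := inferInstanceAs (IsIso ((Over.forget _).map (inv (toSpecFn H))))
  rw [h1, Over.comp_left, Over.comp_left]
  infer_instance

instance : IsSeparated (Red.Ga (Spec (CommRingCat.of K))).hom := by
  have h1 : (Red.Ga (Spec (CommRingCat.of K))).hom =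
    (gaTo : Red.Ga (Spec (CommRingCat.of K)) ⟶ SpecOver K K[X]).left ≫ (SpecOver K K[X]).hom := (Over.w _).symm
  have h2 : IsIso (gaTo : Red.Ga (Spec (CommRingCat.of K)) ⟶ SpecOver K K[X]).left :=
    inferInstanceAs (IsIso ((Over.forget _).map gaTo))
  have h3 : IsSeparated (SpecOver K K[X]).hom := inferInstanceAs (IsSeparated (Spec.map _))
  rw [h1]
  infer_instance

theorem surjective_ga {H : Over (Spec (CommRingCat.of K))} [IsAffine H.left]
    (i : H ⟶ Red.Ga (Spec (CommRingCat.of K))) [IsClosedImmersion i.left] :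
    Function.Surjective (Polynomial.aeval ((gaC (K := K)).v i) : K[X] →ₐ[K] Fn H) :=
  surjective_of_closed i gaTo _ (comp_gaTo i)

/-- the endomorphism of `𝔾_a` given by a polynomial -/
noncomputable def gaPol (P : K[X]) : Red.Ga (Spec (CommRingCat.of K)) ⟶ Red.Ga (Spec (CommRingCat.of K)) :=
  gaTo ≫ specMap K (Polynomial.aeval P : K[X] →ₐ[K] K[X]) ≫ gaFrom

theorem gaPol_pt (P : K[X]) {T : Over (Spec (CommRingCat.of K))} (t : T ⟶ Red.Ga (Spec (CommRingCat.of K))) :
    (gaC (K := K)).v (t ≫ gaPol P) = Polynomial.aeval ((gaC (K := K)).v t) P := by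
  have h1 : (t ≫ gaPol P) ≫ gaTo = affPt T
      ((Polynomial.aeval ((gaC (K := K)).v t) : K[X] →ₐ[K] Fn T).comp (Polynomial.aeval P : K[X] →ₐ[K] K[X])) := by
    rw [gaPol]
    simp only [Category.assoc, gaFrom_gaTo, Category.comp_id]
    rw [← Category.assoc, comp_gaTo, affPt_specMap]
    rfl
  rw [comp_gaTo] at h1
  have h2 := (affPt_bijective T).1 h1
  have h3 : Polynomial.aeval ((gaC (K := K)).v (t ≫ gaPol P)) Polynomial.X =
    ((Polynomial.aeval ((gaC (K := K)).v t) : K[X] →ₐ[K] Fn T).comp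
      (Polynomial.aeval P : K[X] →ₐ[K] K[X])) Polynomial.X := DFunLike.congr_fun h2 Polynomial.X
  rw [Polynomial.aeval_X, AlgHom.comp_apply, Polynomial.aeval_X] at h3
  exact h3

theorem flat_surj_gaPol (P : K[X]) (hP : P.Monic) (hn : 0 < P.natDegree) :
    Flat (gaPol P).left ∧ Surjective (gaPol P).left := by
  obtain ⟨h1, h2⟩ := (flat_and_surjective_specMap_iff K (Polynomial.aeval P : K[X] →ₐ[K] K[X])).2
    (K844.FFlat.aeval_poly P hP hn)
  have h3 : IsIso (gaTo : Red.Ga (Spec (CommRingCat.of K)) ⟶ SpecOver K K[X]).left :=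
    inferInstanceAs (IsIso ((Over.forget _).map gaTo))
  have h3' : IsIso (gaFrom : SpecOver K K[X] ⟶ Red.Ga (Spec (CommRingCat.of K))) :=
    ⟨gaTo, gaFrom_gaTo, gaTo_gaFrom⟩
  have h4 : IsIso (gaFrom : SpecOver K K[X] ⟶ Red.Ga (Spec (CommRingCat.of K))).left :=
    inferInstanceAs (IsIso ((Over.forget _).map gaFrom))
  rw [gaPol, Over.comp_left, Over.comp_left]
  constructor <;> infer_instance

/-- a criterion for kernels -/
theorem isKernel_of {G H Q : Over (Spec (CommRingCat.of K))} [GrpObj Q] (i : H ⟶ G) [Mono i]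
    (φ : G ⟶ Q) (hc : i ≫ φ = toUnit H ≫ η[Q])
    (hl : ∀ (T : Over (Spec (CommRingCat.of K))) (t : T ⟶ G) (b : T ⟶ 𝟙_ _), t ≫ φ = b ≫ η[Q] →
      ∃ s : T ⟶ H, s ≫ i = t) : AlgGrp.IsKernel i φ := by
  choose f hf using hl
  refine ⟨⟨hc⟩, ⟨PullbackCone.IsLimit.mk _ (fun s => f _ s.fst s.snd s.condition) (fun s => ?_)
    (fun s => ?_) ?_⟩⟩
  · exact hf _ _ _ _
  · exact toUnit_unique _ _
  · intro s m h1 h2
    rw [← cancel_mono i, h1]
    exact (hf _ _ _ _).symm

/-- The additive case. -/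
theorem main_ga {H : Over (Spec (CommRingCat.of K))} [GrpObj H]
    (i : H ⟶ Red.Ga (Spec (CommRingCat.of K))) [IsMonHom i] [Mono i] [IsFinite H.hom] :
    ∃ φ : Red.Ga (Spec (CommRingCat.of K)) ⟶ Red.Ga (Spec (CommRingCat.of K)),
      IsMonHom φ ∧ AlgGrp.IsKernel i φ ∧ Flat φ.left ∧ Surjective φ.left := by
  have h1 : IsClosedImmersion i.left := isClosedImmersion_left i
  have h2 : IsAffine H.left := affine_of_finite H
  have h3 : Module.Finite K (Fn H) := finite_fn H
  have hs := surjective_ga i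
  set P := minpoly K ((gaC (K := K)).v i) with hPdef
  have hP : P.Monic := minpoly.monic (Algebra.IsIntegral.isIntegral _)
  have hn : 0 < P.natDegree := natDegree_pos gaC i
  have hadd : ∀ (T : Over (Spec (CommRingCat.of K))) (a b : Fn T), Polynomial.aeval (a + b) P =
      Polynomial.aeval a P + Polynomial.aeval b P := fun T a b =>
    K844.SubAlg.additive P hP hn (universal gaC i hs (fun {R} _ (a b : R) => a + b)
    (fun f a b => map_add f a b) (fun x y => gaFn_mul x y)) a b
  have hmon : IsMonHom (gaPol P) := by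
    apply Groth.Agent.Sga3B.Pts.isMonHom_of_points
    intro X x y
    apply (gaC (K := K)).inj
    have h4 : (gaC (K := K)).v ((x * y) ≫ gaPol P) = _ := gaPol_pt P (x * y)
    have h5 : ∀ x y : X ⟶ Red.Ga (Spec (CommRingCat.of K)), (gaC (K := K)).v (x * y) =
      (gaC (K := K)).v x + (gaC (K := K)).v y := fun x y => gaFn_mul x y
    rw [h4, h5, h5, gaPol_pt, gaPol_pt, hadd]
  refine ⟨gaPol P, hmon, ?_, flat_surj_gaPol P hP hn⟩
  have hone : ∀ {T : Over (Spec (CommRingCat.of K))} (b : T ⟶ 𝟙_ _),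
      (gaC (K := K)).v (b ≫ η[Red.Ga (Spec (CommRingCat.of K))]) = 0 := by
    intro T b
    have : b ≫ η[Red.Ga (Spec (CommRingCat.of K))] = 1 := by
      rw [Hom.one_def]
      congr 1
      exact toUnit_unique _ _
    rw [this]
    exact gaFn_one
  apply isKernel_of
  · apply (gaC (K := K)).inj
    rw [gaPol_pt, hone]
    exact minpoly.aeval K _
  · intro T t b h
    exact exists_lift gaC i hs t (by rw [← hPdef, ← gaPol_pt, h, hone])

/-- coordinate of `𝔾_m` -/
noncomputable def gmC : Coord (K := K) (Red.Gm (Spec (CommRingCat.of K))) where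
  v := fun t => fnChar t (Multiplicative.ofAdd 1)
  nat := fun h t => by rw [← fnMap_fnChar]; rfl
  inj := fun {T} x y h => by
    apply (dsEquiv T ℤ).symm.injective
    change dsChar x = dsChar y
    apply MonoidHom.ext_mint
    exact h

theorem isUnit_gmC {T : Over (Spec (CommRingCat.of K))} (t : T ⟶ Red.Gm (Spec (CommRingCat.of K))) :
    IsUnit ((gmC (K := K)).v t) := by
  have h : IsUnit (Multiplicative.ofAdd (1 : ℤ)) := Group.isUnit _
  exact h.map (fnChar t)

theorem gmC_mul {T : Over (Spec (CommRingCat.of K))} (x y : T ⟶ Red.Gm (Spec (CommRingCat.of K))) :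
    (gmC (K := K)).v (x * y) = (gmC (K := K)).v x * (gmC (K := K)).v y := by
  change fnChar (x * y) _ = _
  rw [fnChar_mul]
  rfl

theorem gmC_one {T : Over (Spec (CommRingCat.of K))} :
    (gmC (K := K)).v (1 : T ⟶ Red.Gm (Spec (CommRingCat.of K))) = 1 := by
  have h := gmC_mul (1 : T ⟶ Red.Gm (Spec (CommRingCat.of K))) 1
  have h1 := _root_.mul_one (1 : T ⟶ Red.Gm (Spec (CommRingCat.of K)))
  rw [h1] at h
  have h2 := (isUnit_gmC (1 : T ⟶ Red.Gm (Spec (CommRingCat.of K)))).mul_left_cancel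
    (b := 1) (c := (gmC (K := K)).v (1 : T ⟶ Red.Gm (Spec (CommRingCat.of K)))) (by
      rw [← h, _root_.mul_one])
  exact h2.symm

instance : IsSeparated (Red.Gm (Spec (CommRingCat.of K))).hom := by
  have h1 : (Red.Gm (Spec (CommRingCat.of K))).hom =
    (dsTo K ℤ).left ≫ (SpecOver K (MonoidAlgebra K (Multiplicative ℤ))).hom := (Over.w _).symm
  have h2 : IsIso (dsTo K ℤ).left := inferInstanceAs (IsIso ((Over.forget _).map (dsTo K ℤ)))
  have h3 : IsSeparated (SpecOver K (MonoidAlgebra K (Multiplicative ℤ))).hom :=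
    inferInstanceAs (IsSeparated (Spec.map _))
  rw [h1]
  infer_instance

theorem surjective_gm {H : Over (Spec (CommRingCat.of K))} [IsAffine H.left] [Module.Finite K (Fn H)]
    (i : H ⟶ Red.Gm (Spec (CommRingCat.of K))) [IsClosedImmersion i.left] :
    Function.Surjective (Polynomial.aeval ((gmC (K := K)).v i) : K[X] →ₐ[K] Fn H) := by
  have h1 : Function.Surjective (chAlg (R := K) (fnChar i)) :=
    surjective_of_closed i (dsTo K ℤ) _ (comp_dsTo i)
  set x := (gmC (K := K)).v i with hx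
  -- the inverse is a polynomial
  have hu : IsUnit x := isUnit_gmC i
  have hadj : ∀ y : Fn H, y ∈ (Polynomial.aeval x : K[X] →ₐ[K] Fn H).range ↔
    ∃ q, Polynomial.aeval x q = y := fun y => Iff.rfl
  have hxm : x ∈ (Polynomial.aeval x : K[X] →ₐ[K] Fn H).range := ⟨Polynomial.X, Polynomial.aeval_X x⟩
  have hinv : (hu.unit⁻¹ : (Fn H)ˣ).val ∈ (Polynomial.aeval x : K[X] →ₐ[K] Fn H).range := by
    let m : (Polynomial.aeval x : K[X] →ₐ[K] Fn H).range →ₗ[K]
        (Polynomial.aeval x : K[X] →ₐ[K] Fn H).range := LinearMap.mulLeft K ⟨x, hxm⟩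
    have hm : Function.Injective m := by
      intro a b hab
      have h2 : x * a.1 = x * b.1 := congrArg Subtype.val hab
      exact Subtype.ext (hu.mul_left_cancel h2)
    obtain ⟨b, hb⟩ := (LinearMap.injective_iff_surjective.1 hm) 1
    have h3 : x * b.1 = 1 := congrArg Subtype.val hb
    have h4 : (hu.unit⁻¹ : (Fn H)ˣ).val = b.1 := by
      apply hu.mul_left_cancel
      rw [h3]
      exact hu.mul_val_inv
    rw [h4]
    exact b.2
  have hall : ∀ k : Multiplicative ℤ, fnChar i k ∈ (Polynomial.aeval x : K[X] →ₐ[K] Fn H).range := by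
    have hk : ∀ k : ℤ, fnChar i (Multiplicative.ofAdd k) = ((hu.unit ^ k : (Fn H)ˣ) : Fn H) := by
      intro k
      have h5 : (fnChar i).toHomUnits (Multiplicative.ofAdd (1 : ℤ)) = hu.unit := by
        apply Units.ext; rfl
      have h6 : (fnChar i).toHomUnits (Multiplicative.ofAdd k) = hu.unit ^ k := by
        rw [← h5, ← map_zpow, ← ofAdd_zsmul, smul_eq_mul, _root_.mul_one]
      rw [← h6]; rfl
    intro k
    obtain ⟨k, rfl⟩ := Multiplicative.ofAdd.surjective k
    rw [hk]
    rcases Int.le_total 0 k with h | h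
    · obtain ⟨n, rfl⟩ := Int.eq_ofNat_of_zero_le h
      simp only [zpow_natCast, Units.val_pow_eq_pow_val]
      exact pow_mem hxm n
    · obtain ⟨n, hn⟩ := Int.eq_ofNat_of_zero_le (neg_nonneg.2 h)
      have : k = -n := by omega
      rw [this, zpow_neg, zpow_natCast, ← inv_pow, Units.val_pow_eq_pow_val]
      exact pow_mem hinv n
  intro y
  obtain ⟨z, rfl⟩ := h1 y
  change chAlg (R := K) (fnChar i) z ∈ (Polynomial.aeval x : K[X] →ₐ[K] Fn H).range
  induction z using MonoidAlgebra.induction_on with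
  | of k => 
    rw [chAlg, MonoidAlgebra.lift_of]
    exact hall k
  | add f g hf hg => rw [map_add]; exact add_mem hf hg
  | smul r f hf => rw [map_smul]; exact Subalgebra.smul_mem _ hf r

/-- the power endomorphism of `𝔾_m` -/
noncomputable def gmPow (n : ℕ) : Red.Gm (Spec (CommRingCat.of K)) ⟶ Red.Gm (Spec (CommRingCat.of K)) :=
  dsTo K ℤ ≫ specMap K (K844.FFlat.powAlg K n) ≫ dsFrom K ℤ

theorem gmPow_pt (n : ℕ) {T : Over (Spec (CommRingCat.of K))} (t : T ⟶ Red.Gm (Spec (CommRingCat.of K))) :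
    (gmC (K := K)).v (t ≫ gmPow n) = ((gmC (K := K)).v t) ^ n := by
  have h1 : (t ≫ gmPow n) ≫ dsTo K ℤ = affPt T ((chAlg (R := K) (fnChar t)).comp (K844.FFlat.powAlg K n)) := by
    rw [gmPow]
    simp only [Category.assoc, dsFrom_dsTo, Category.comp_id]
    rw [← Category.assoc, comp_dsTo, affPt_specMap]
  rw [comp_dsTo] at h1
  have h2 := (affPt_bijective T).1 h1
  have h3 := DFunLike.congr_fun h2 (MonoidAlgebra.of K (Multiplicative ℤ) (Multiplicative.ofAdd 1))
  rw [chAlg, MonoidAlgebra.lift_of, AlgHom.comp_apply] at h3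
  have h4 : K844.FFlat.powAlg K n (MonoidAlgebra.of K (Multiplicative ℤ) (Multiplicative.ofAdd 1)) =
    MonoidAlgebra.of K (Multiplicative ℤ) ((Multiplicative.ofAdd 1) ^ n) := by
    simp
  rw [h4, MonoidAlgebra.lift_of, map_pow] at h3
  exact h3

theorem flat_surj_gmPow (n : ℕ) (hn : 0 < n) :
    Flat (gmPow (K := K) n).left ∧ Surjective (gmPow (K := K) n).left := by
  obtain ⟨h1, h2⟩ := (flat_and_surjective_specMap_iff K (K844.FFlat.powAlg K n)).2
    (K844.FFlat.powAlg_faithfullyFlat K n hn)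
  have h3 : IsIso (dsTo K ℤ).left := inferInstanceAs (IsIso ((Over.forget _).map (dsTo K ℤ)))
  have h4 : IsIso (dsFrom K ℤ).left := inferInstanceAs (IsIso ((Over.forget _).map (dsFrom K ℤ)))
  rw [gmPow, Over.comp_left, Over.comp_left]
  constructor <;> infer_instance

/-- The multiplicative case. -/
theorem main_gm {H : Over (Spec (CommRingCat.of K))} [GrpObj H]
    (i : H ⟶ Red.Gm (Spec (CommRingCat.of K))) [IsMonHom i] [Mono i] [IsFinite H.hom] :
    ∃ φ : Red.Gm (Spec (CommRingCat.of K)) ⟶ Red.Gm (Spec (CommRingCat.of K)),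
      IsMonHom φ ∧ AlgGrp.IsKernel i φ ∧ Flat φ.left ∧ Surjective φ.left := by
  have h1 : IsClosedImmersion i.left := isClosedImmersion_left i
  have h2 : IsAffine H.left := affine_of_finite H
  have h3 : Module.Finite K (Fn H) := finite_fn H
  have hs := surjective_gm i
  set P := minpoly K ((gmC (K := K)).v i) with hPdef
  have hP : P.Monic := minpoly.monic (Algebra.IsIntegral.isIntegral _)
  have hn : 0 < P.natDegree := natDegree_pos gmC i
  have hu : IsUnit (AdjoinRoot.root P) := by
    have h4 : ∃ g : Fn H →ₐ[K] AdjoinRoot P, g ((gmC (K := K)).v i) = AdjoinRoot.root P := by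
      obtain ⟨s, hs'⟩ := exists_pt gmC i hs (T := SpecOver K (AdjoinRoot P))
        ((fnSpec (R := K) _).symm (AdjoinRoot.root P)) (by
          rw [aeval_fnSpec_symm, AdjoinRoot.aeval_eq, AdjoinRoot.mk_self, map_zero])
      refine ⟨(fnSpec (R := K) _).toAlgHom.comp (fnMap s), ?_⟩
      rw [AlgHom.comp_apply, hs']
      exact (fnSpec (R := K) _).apply_symm_apply _
    obtain ⟨g, hg⟩ := h4
    rw [← hg]
    exact (isUnit_gmC i).map g
  have hmul := K844.SubAlg.multiplicative P hP hn hu (universal gmC i hs (fun {R} _ (a b : R) => a * b)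
    (fun f a b => map_mul f a b) (fun x y => gmC_mul x y))
  have hpt : ∀ {T : Over (Spec (CommRingCat.of K))} (y : Fn T), Polynomial.aeval y P = 0 ↔
      y ^ P.natDegree = 1 := by
    intro T y
    conv_lhs => rw [hmul]
    rw [map_sub, map_pow, Polynomial.aeval_X, map_one, sub_eq_zero]
  have hmon : IsMonHom (gmPow (K := K) P.natDegree) := by
    apply Groth.Agent.Sga3B.Pts.isMonHom_of_points
    intro X x y
    apply (gmC (K := K)).inj
    rw [gmPow_pt, gmC_mul, gmC_mul, gmPow_pt, gmPow_pt, mul_pow]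
  refine ⟨gmPow P.natDegree, hmon, ?_, flat_surj_gmPow _ hn⟩
  have hone : ∀ {T : Over (Spec (CommRingCat.of K))} (b : T ⟶ 𝟙_ _),
      (gmC (K := K)).v (b ≫ η[Red.Gm (Spec (CommRingCat.of K))]) = 1 := by
    intro T b
    have : b ≫ η[Red.Gm (Spec (CommRingCat.of K))] = 1 := by
      rw [Hom.one_def]
      congr 1
      exact toUnit_unique _ _
    rw [this]
    exact gmC_one
  apply isKernel_of
  · apply (gmC (K := K)).inj
    rw [gmPow_pt, hone, ← hpt]
    exact minpoly.aeval K _
  · intro T t b h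
    exact exists_lift gmC i hs t (by rw [← hPdef, hpt, ← gmPow_pt, h, hone])

end K844.FinSub
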