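import Mathlib

/-!
# Rational functions over a field: evaluation, the local ring at a point
-/

set_option autoImplicit false
universe u

namespace K844.BirRat

variable {K : Type u} [Field K]

section Alg

open Polynomial

variable {E : Type u} [Field E] [Algebra K E]

/-- the prime ideal of polynomials vanishing at `c` -/
noncomputable def pr (c : E) : Ideal E[X] := RingHom.ker (Polynomial.evalRingHom c)

instance (c : E) : (pr c).IsPrime := RingHom.ker_isPrime _

/-- the local ring of the line at `c` -/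
abbrev Rl (c : E) : Type u := Localization.AtPrime (pr c)

/-- substitution -/
noncomputable def sub {M : Type u} [CommRing M] [Algebra K M] (φ : E →ₐ[K] M) (r : M) : E[X] →ₐ[K] M :=
  Polynomial.eval₂AlgHom φ r (fun _ => Commute.all _ _)

theorem sub_apply {M : Type u} [CommRing M] [Algebra K M] (φ : E →ₐ[K] M) (r : M) (P : E[X]) :
    sub φ r P = Polynomial.eval₂ (φ : E →+* M) r P := rfl

theorem sub_C {M : Type u} [CommRing M] [Algebra K M] (φ : E →ₐ[K] M) (r : M) (x : E) :
    sub φ r (C x) = φ x := by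
  rw [sub_apply, eval₂_C]; rfl

theorem sub_X {M : Type u} [CommRing M] [Algebra K M] (φ : E →ₐ[K] M) (r : M) :
    sub φ r X = r := by
  rw [sub_apply, eval₂_X]

variable (K) in
/-- evaluation at `c` -/
noncomputable def evc (c : E) : Rl c →ₐ[K] E :=
  IsLocalization.liftAlgHom (M := (pr c).primeCompl) (f := sub (AlgHom.id K E) c) (fun y => by
    apply IsUnit.mk0
    exact y.2)

theorem evc_algebraMap (c : E) (P : E[X]) : evc K c (algebraMap E[X] (Rl c) P) = P.eval c := by
  rw [evc, IsLocalization.liftAlgHom_apply, IsLocalization.lift_eq]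
  rfl

variable (K) in
/-- the map to rational functions -/
noncomputable def toRat (c : E) : Rl c →ₐ[K] RatFunc E :=
  IsLocalization.liftAlgHom (M := (pr c).primeCompl) (f := IsScalarTower.toAlgHom K E[X] (RatFunc E)) (fun y => by
    apply IsUnit.mk0
    intro h0
    have h1 : (y : E[X]) = 0 := RatFunc.algebraMap_injective E (h0.trans (map_zero _).symm)
    apply y.2
    change (y : E[X]) ∈ pr c
    rw [h1]
    exact zero_mem _)

theorem toRat_algebraMap (c : E) (P : E[X]) :
    toRat K c (algebraMap E[X] (Rl c) P) = algebraMap E[X] (RatFunc E) P := by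
  rw [toRat, IsLocalization.liftAlgHom_apply, IsLocalization.lift_eq]
  rfl

/-- value of a rational function at a transcendental element -/
noncomputable def Ev {M : Type u} [Field M] [Algebra K M] (φ : E →ₐ[K] M) (r : M)
    (h : ∀ P : E[X], P ≠ 0 → sub φ r P ≠ 0) : RatFunc E →ₐ[K] M :=
  RatFunc.liftAlgHom (sub φ r) (fun P hP => by
    rw [Submonoid.mem_comap, mem_nonZeroDivisors_iff_ne_zero]
    exact h P (nonZeroDivisors.ne_zero hP))

theorem Ev_apply {M : Type u} [Field M] [Algebra K M] (φ : E →ₐ[K] M) (r : M)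
    (h : ∀ P : E[X], P ≠ 0 → sub φ r P ≠ 0) (f : RatFunc E) :
    Ev φ r h f = sub φ r f.num / sub φ r f.denom := RatFunc.liftAlgHom_apply _ _ _

theorem Ev_algebraMap {M : Type u} [Field M] [Algebra K M] (φ : E →ₐ[K] M) (r : M)
    (h : ∀ P : E[X], P ≠ 0 → sub φ r P ≠ 0) (P : E[X]) :
    Ev φ r h (algebraMap E[X] (RatFunc E) P) = sub φ r P := by
  rw [Ev_apply, RatFunc.num_algebraMap, RatFunc.denom_algebraMap, map_one, div_one]

/-- the constants -/
noncomputable def incA (K : Type u) [Field K] (E : Type u) [Field E] [Algebra K E] : E →ₐ[K] RatFunc E :=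
  IsScalarTower.toAlgHom K E (RatFunc E)

theorem Ev_incA {M : Type u} [Field M] [Algebra K M] (φ : E →ₐ[K] M) (r : M)
    (h : ∀ P : E[X], P ≠ 0 → sub φ r P ≠ 0) (x : E) :
    Ev φ r h (incA K E x) = φ x := by
  have h1 : incA K E x = algebraMap E[X] (RatFunc E) (C x) := (RatFunc.algebraMap_C x).symm
  rw [h1, Ev_algebraMap, sub_C]

/-- Consequences of the evaluation axiom. -/
theorem num_denom_of_evc (c : E) (σ₁ : E →ₐ[K] Rl c) (h : (evc K c).comp σ₁ = AlgHom.id K E) (x : E) :
    (toRat K c (σ₁ x)).denom.eval c ≠ 0 ∧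
      (toRat K c (σ₁ x)).num.eval c = x * (toRat K c (σ₁ x)).denom.eval c := by
  obtain ⟨P, Q, hPQ⟩ := IsLocalization.exists_mk'_eq (pr c).primeCompl (σ₁ x)
  have hQc : (Q : E[X]).eval c ≠ 0 := Q.2
  have h1 : σ₁ x * algebraMap E[X] (Rl c) Q = algebraMap E[X] (Rl c) P := by
    rw [← hPQ, IsLocalization.mk'_spec]
  have h2 : x * (Q : E[X]).eval c = P.eval c := by
    have h3 := congrArg (evc K c) h1
    rw [map_mul, evc_algebraMap, evc_algebraMap] at h3
    have h4 : evc K c (σ₁ x) = x := DFunLike.congr_fun h x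
    rwa [h4] at h3
  set f := toRat K c (σ₁ x) with hf
  have h3 : f * algebraMap E[X] (RatFunc E) Q = algebraMap E[X] (RatFunc E) P := by
    have h4 := congrArg (toRat K c) h1
    rwa [map_mul, toRat_algebraMap, toRat_algebraMap] at h4
  have hd0 : algebraMap E[X] (RatFunc E) f.denom ≠ 0 := by
    intro h0
    exact f.denom_ne_zero (RatFunc.algebraMap_injective E (h0.trans (map_zero _).symm))
  have h4 : f.num * Q = P * f.denom := by
    apply RatFunc.algebraMap_injective E
    have h5 : algebraMap E[X] (RatFunc E) f.num = f * algebraMap E[X] (RatFunc E) f.denom := by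
      rw [← div_eq_iff hd0, RatFunc.num_div_denom]
    rw [map_mul, map_mul, ← h3, h5]
    ring
  have h5 : f.denom ∣ (Q : E[X]) := by
    have h6 : f.denom ∣ f.num * Q := ⟨P, by rw [h4, mul_comm]⟩
    exact (RatFunc.isCoprime_num_denom f).symm.dvd_of_dvd_mul_left h6
  have h6 : f.denom.eval c ≠ 0 := by
    obtain ⟨g, hg⟩ := h5
    intro h0
    apply hQc
    rw [hg, eval_mul, h0, zero_mul]
  refine ⟨h6, ?_⟩
  have h7 := congrArg (Polynomial.eval c) h4
  rw [eval_mul, eval_mul, ← h2] at h7
  apply mul_right_cancel₀ hQc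
  rw [h7]; ring

theorem sub_eq₁ (σ : E →ₐ[K] RatFunc E) (P : E[X]) :
    sub ((IsScalarTower.toAlgHom K (RatFunc E) (RatFunc (RatFunc E))).comp σ) RatFunc.X P =
      algebraMap (RatFunc E)[X] (RatFunc (RatFunc E)) (P.map (σ : E →+* RatFunc E)) := by
  have h : ((sub ((IsScalarTower.toAlgHom K (RatFunc E) (RatFunc (RatFunc E))).comp σ) RatFunc.X :
      E[X] →ₐ[K] RatFunc (RatFunc E)) : E[X] →+* RatFunc (RatFunc E)) =
      (algebraMap (RatFunc E)[X] (RatFunc (RatFunc E))).comp
        (Polynomial.mapRingHom (σ : E →+* RatFunc E)) := by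
    apply Polynomial.ringHom_ext
    · intro x
      change sub _ _ (C x) = algebraMap (RatFunc E)[X] (RatFunc (RatFunc E)) ((C x).map _)
      rw [sub_C, Polynomial.map_C, RatFunc.algebraMap_C]
      rfl
    · change sub _ _ X = algebraMap (RatFunc E)[X] (RatFunc (RatFunc E)) (X.map _)
      rw [sub_X, Polynomial.map_X, RatFunc.algebraMap_X]
  exact DFunLike.congr_fun h P

theorem sub_eq₂ (L : (RatFunc E)[X]) (P : E[X]) :
    sub ((IsScalarTower.toAlgHom K (RatFunc E) (RatFunc (RatFunc E))).comp (incA K E))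
      (algebraMap _ _ L) P =
      algebraMap (RatFunc E)[X] (RatFunc (RatFunc E)) ((P.map (algebraMap E (RatFunc E))).comp L) := by
  have h : ((sub ((IsScalarTower.toAlgHom K (RatFunc E) (RatFunc (RatFunc E))).comp (incA K E))
      (algebraMap _ _ L) :
      E[X] →ₐ[K] RatFunc (RatFunc E)) : E[X] →+* RatFunc (RatFunc E)) =
      (algebraMap (RatFunc E)[X] (RatFunc (RatFunc E))).comp ((Polynomial.compRingHom L).comp
        (Polynomial.mapRingHom (algebraMap E (RatFunc E)))) := by
    apply Polynomial.ringHom_ext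
    · intro x
      change sub _ _ (C x) = algebraMap (RatFunc E)[X] (RatFunc (RatFunc E)) (((C x).map _).comp L)
      rw [sub_C, Polynomial.map_C, Polynomial.C_comp, RatFunc.algebraMap_C]
      rfl
    · change sub _ _ X = algebraMap (RatFunc E)[X] (RatFunc (RatFunc E)) ((X.map _).comp L)
      rw [sub_X, Polynomial.map_X, Polynomial.X_comp]
  exact DFunLike.congr_fun h P

theorem sub_ne₁ (σ : E →ₐ[K] RatFunc E) (P : E[X]) (hP : P ≠ 0) :
    sub ((IsScalarTower.toAlgHom K (RatFunc E) (RatFunc (RatFunc E))).comp σ) RatFunc.X P ≠ 0 := by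
  rw [sub_eq₁]
  intro h0
  have h1 := RatFunc.algebraMap_injective (RatFunc E) (h0.trans (map_zero _).symm)
  exact hP ((Polynomial.map_eq_zero _).1 h1)

theorem sub_ne₂ (L : (RatFunc E)[X]) (hL : 0 < L.natDegree) (P : E[X]) (hP : P ≠ 0) :
    sub ((IsScalarTower.toAlgHom K (RatFunc E) (RatFunc (RatFunc E))).comp (incA K E))
      (algebraMap _ _ L) P ≠ 0 := by
  rw [sub_eq₂]
  intro h0
  have h1 := RatFunc.algebraMap_injective (RatFunc E) (h0.trans (map_zero _).symm)
  rw [Polynomial.comp_eq_zero_iff] at h1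
  rcases h1 with h1 | ⟨_, h1⟩
  · exact hP ((Polynomial.map_eq_zero _).1 h1)
  · rw [h1, natDegree_C] at hL
    exact lt_irrefl _ hL

/-- Consequences of the associativity axiom. -/
theorem assoc_of_Ev (σ : E →ₐ[K] RatFunc E) (L : (RatFunc E)[X]) (hL : 0 < L.natDegree)
    (h : (Ev _ _ (sub_ne₁ σ)).comp σ = (Ev _ _ (sub_ne₂ L hL)).comp σ) (x : E) :
    ((σ x).num.map (σ : E →+* RatFunc E)) * (((σ x).denom.map (algebraMap E (RatFunc E))).comp L) =
      (((σ x).num.map (algebraMap E (RatFunc E))).comp L) * ((σ x).denom.map (σ : E →+* RatFunc E)) := by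
  have h3 : Ev _ _ (sub_ne₁ σ) (σ x) = Ev _ _ (sub_ne₂ L hL) (σ x) := DFunLike.congr_fun h x
  rw [Ev_apply, Ev_apply, div_eq_div_iff (sub_ne₁ σ _ (RatFunc.denom_ne_zero _))
    (sub_ne₂ L hL _ (RatFunc.denom_ne_zero _)), sub_eq₁, sub_eq₁, sub_eq₂, sub_eq₂, ← map_mul,
    ← map_mul] at h3
  exact RatFunc.algebraMap_injective _ h3

/-- the point `t` of the generic line is the restriction of the local one -/
theorem toRat_comp (c : E) : (toRat K c).comp (IsScalarTower.toAlgHom K E (Rl c)) = incA K E := by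
  apply AlgHom.ext
  intro x
  change toRat K c (algebraMap E (Rl c) x) = algebraMap E (RatFunc E) x
  rw [IsScalarTower.algebraMap_apply E E[X] (Rl c), toRat_algebraMap]
  exact RatFunc.algebraMap_C x

theorem evc_comp (c : E) : (evc K c).comp (IsScalarTower.toAlgHom K E (Rl c)) = AlgHom.id K E := by
  apply AlgHom.ext
  intro x
  change evc K c (algebraMap E (Rl c) x) = x
  rw [IsScalarTower.algebraMap_apply E E[X] (Rl c), evc_algebraMap]
  exact eval_C

theorem Ev_comp_incA {M : Type u} [Field M] [Algebra K M] (φ : E →ₐ[K] M) (r : M)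
    (h : ∀ P : E[X], P ≠ 0 → sub φ r P ≠ 0) : (Ev φ r h).comp (incA K E) = φ :=
  AlgHom.ext (Ev_incA φ r h)

theorem Ev_X {M : Type u} [Field M] [Algebra K M] (φ : E →ₐ[K] M) (r : M)
    (h : ∀ P : E[X], P ≠ 0 → sub φ r P ≠ 0) : Ev φ r h RatFunc.X = r := by
  rw [← RatFunc.algebraMap_X, Ev_algebraMap, sub_X]

end Alg

end K844.BirRat
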