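import Groth.Agent.BddFin.K844.BirGeom
import Groth.Agent.BddFin.K844.BirRat
import Groth.Agent.Sga3C.Transl

/-!
# The rational coaction attached to an action on an integral scheme
-/

set_option autoImplicit false
universe u
open CategoryTheory Limits AlgebraicGeometry MonoidalCategory CartesianMonoidalCategory MonObj GrpObj
open Groth.Agent.Books.AffBridge

namespace K844.BirAct

open K844.BirGeom

variable {K : Type u} [Field K] {X : Over (Spec (CommRingCat.of K))} [IsIntegral X.left]

attribute [local instance] algE

theorem mono_gen : Mono (gen X) := by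
  have : Mono (gen X).left := inferInstanceAs (Mono (X.left.fromSpecStalk (genericPoint X.left)))
  exact (Over.forget _).mono_of_mono_map this

theorem exists_factor_aux {Z : Scheme.{u}} {R : CommRingCat.{u}} [IsLocalRing R] (f : Spec R ⟶ Z) (y : Z)
    (hy : f (IsLocalRing.closedPoint R) = y) :
    ∃ ψ : Z.presheaf.stalk y ⟶ R, Spec.map ψ ≫ Z.fromSpecStalk y = f := by
  subst hy
  exact ⟨_, Scheme.Spec_stalkClosedPointTo_fromSpecStalk f⟩

theorem exists_factor {R : Type u} [CommRing R] [IsLocalRing R] [Algebra K R]
    (x : SpecOver K R ⟶ X) (hx : x.left (IsLocalRing.closedPoint R) = genericPoint X.left) :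
    ∃ ψ : X.left.functionField →ₐ[K] R, x = specMap K ψ ≫ gen X := by
  obtain ⟨ψ, hψ⟩ := exists_factor_aux (R := CommRingCat.of R) x.left _ hx
  have h1 : ψ.hom.comp (kHom X) = algebraMap K R := by
    have h2 : CommRingCat.ofHom (kHom X) ≫ ψ = CommRingCat.ofHom (algebraMap K R) := by
      apply Spec.map_injective
      rw [Spec.map_comp, map_kHom, ← Category.assoc, hψ]
      exact Over.w x
    exact congrArg (fun f => f.hom) h2
  refine ⟨{ ψ.hom with commutes' := fun r => DFunLike.congr_fun h1 r }, ?_⟩
  apply Over.OverMorphism.ext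
  exact hψ.symm



open K844.BirRat Polynomial

/-- A one-parameter family of points of `G`. -/
structure Par (K : Type u) [Field K] (G : Over (Spec (CommRingCat.of K))) [GrpObj G] where
  /-- the coordinate of the unit -/
  c : K
  /-- admissible parameters -/
  ok : ∀ (R : Type u) [CommRing R], R → Prop
  ok_map : ∀ {R R' : Type u} [CommRing R] [CommRing R'] (φ : R →+* R') {r : R}, ok R r → ok R' (φ r)
  ok_c : ok K c
  /-- the points -/
  pt : ∀ {R : Type u} [CommRing R] [Algebra K R] (r : R), ok R r → (SpecOver K R ⟶ G)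
  nat : ∀ {R R' : Type u} [CommRing R] [Algebra K R] [CommRing R'] [Algebra K R'] (φ : R →ₐ[K] R') (r : R)
    (h : ok R r), specMap K φ ≫ pt r h = pt (φ r) (ok_map φ.toRingHom h)
  one : ∀ {R : Type u} [CommRing R] [Algebra K R], pt (algebraMap K R c) (ok_map _ ok_c) = 1
  /-- the group law -/
  op : ∀ {R : Type u} [CommRing R], R → R → R
  ok_op : ∀ {R : Type u} [CommRing R] {r r' : R}, ok R r → ok R r' → ok R (op r r')
  mul : ∀ {R : Type u} [CommRing R] [Algebra K R] (r r' : R) (h : ok R r) (h' : ok R r'),
    pt r h * pt r' h' = pt (op r r') (ok_op h h')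
  /-- the coordinate is admissible near the unit -/
  ok_X : ∀ {E : Type u} [Field E] [Algebra K E], ok (Rl (algebraMap K E c)) (algebraMap E[X] _ Polynomial.X)

theorem Par.pt_congr {G : Over (Spec (CommRingCat.of K))} [GrpObj G] (D : Par K G)
    {R : Type u} [CommRing R] [Algebra K R] {r r' : R} (h : r = r') (hr : D.ok R r) (hr' : D.ok R r') :
    D.pt r hr = D.pt r' hr' := by
  subst h; rfl

variable {G : Over (Spec (CommRingCat.of K))} [GrpObj G] (D : Par K G) (a : AlgGrp.Action G X)

variable (X) in
theorem ok_ratX {E : Type u} [Field E] [Algebra K E] : D.ok (RatFunc E) RatFunc.X := by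
  have h := D.ok_map (toRat K (algebraMap K E D.c)).toRingHom (D.ok_X (E := E))
  have h1 : (toRat K (algebraMap K E D.c)).toRingHom (algebraMap E[X] _ Polynomial.X) = RatFunc.X := by
    change toRat K (algebraMap K E D.c) (algebraMap E[X] _ Polynomial.X) = RatFunc.X
    rw [toRat_algebraMap, RatFunc.algebraMap_X]
  rwa [h1] at h

/-- The coaction at the generic point. -/
theorem exists_coaction : ∃ σ : X.left.functionField →ₐ[K] RatFunc X.left.functionField,
    (∀ x, (σ x).denom.eval (algebraMap K X.left.functionField D.c) ≠ 0 ∧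
      (σ x).num.eval (algebraMap K X.left.functionField D.c) =
        x * (σ x).denom.eval (algebraMap K X.left.functionField D.c)) ∧
    lift (D.pt RatFunc.X (ok_ratX D)) (specMap K (incA K X.left.functionField) ≫ gen X) ≫ a.act =
      specMap K σ ≫ gen X := by
  set E := X.left.functionField with hE
  set c : E := algebraMap K E D.c with hc
  let j : E →ₐ[K] Rl c := IsScalarTower.toAlgHom K E (Rl c)
  let x₁ : SpecOver K (Rl c) ⟶ X :=
    lift (D.pt (algebraMap E[X] (Rl c) Polynomial.X) D.ok_X) (specMap K j ≫ gen X) ≫ a.act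
  have h1 : specMap K (evc K c) ≫ x₁ = gen X := by
    have h2 : specMap K (evc K c) ≫ lift (D.pt (algebraMap E[X] (Rl c) Polynomial.X) D.ok_X) (specMap K j ≫ gen X) =
        lift 1 (gen X) := by
      rw [comp_lift, D.nat, ← Category.assoc, ← specMap_comp, evc_comp, specMap_id, Category.id_comp]
      congr 1
      rw [← D.one]
      apply D.pt_congr
      change evc K c (algebraMap E[X] (Rl c) Polynomial.X) = _
      rw [evc_algebraMap, eval_X]
    change specMap K (evc K c) ≫ lift _ _ ≫ a.act = _
    rw [← Category.assoc, h2]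
    exact Groth.Agent.Sga3C.Transl.lift_one_act a _
  have hx : x₁.left (IsLocalRing.closedPoint (Rl c)) = genericPoint X.left := by
    have hsurj : Function.Surjective (evc K c).toRingHom := by
      intro y
      refine ⟨algebraMap E[X] (Rl c) (Polynomial.C y), ?_⟩
      change evc K c _ = y
      rw [evc_algebraMap, eval_C]
    have hloc : IsLocalHom (evc K c).toRingHom := IsLocalHom.of_surjective _ hsurj
    have h2 : (specMap K (evc K c)).left (IsLocalRing.closedPoint E) = IsLocalRing.closedPoint (Rl c) :=
      IsLocalRing.comap_closedPoint (evc K c).toRingHom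
    have h3 : (gen X).left (IsLocalRing.closedPoint E) = genericPoint X.left :=
      X.left.fromSpecStalk_closedPoint
    have h4 : (specMap K (evc K c) ≫ x₁).left (IsLocalRing.closedPoint E) = (gen X).left (IsLocalRing.closedPoint E) := by
      rw [h1]
    exact (congrArg x₁.left h2.symm).trans (h4.trans h3)
  obtain ⟨σ₁, hσ₁⟩ := exists_factor x₁ hx
  have hev : (evc K c).comp σ₁ = AlgHom.id K E := by
    have := mono_gen (X := X)
    apply specMap_injective K
    rw [specMap_comp, specMap_id, ← cancel_mono (gen X), Category.assoc, ← hσ₁, h1, Category.id_comp]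
  refine ⟨(toRat K c).comp σ₁, fun x => num_denom_of_evc c σ₁ hev x, ?_⟩
  rw [specMap_comp, Category.assoc, ← hσ₁]
  change _ = specMap K (toRat K c) ≫ lift _ _ ≫ a.act
  rw [← Category.assoc, comp_lift, D.nat, ← Category.assoc (specMap K (toRat K c)), ← specMap_comp, toRat_comp]
  congr 2
  apply D.pt_congr
  change _ = toRat K c (algebraMap E[X] (Rl c) Polynomial.X)
  rw [toRat_algebraMap, RatFunc.algebraMap_X]


/-- The associativity of the coaction. -/
theorem assoc_coaction (σ : X.left.functionField →ₐ[K] RatFunc X.left.functionField)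
    (hσ : lift (D.pt RatFunc.X (ok_ratX D)) (specMap K (incA K X.left.functionField) ≫ gen X) ≫ a.act =
      specMap K σ ≫ gen X)
    (L : (RatFunc X.left.functionField)[X]) (hL : 0 < L.natDegree)
    (hop : D.op (R := RatFunc (RatFunc X.left.functionField)) RatFunc.X
      (algebraMap (RatFunc X.left.functionField) _ RatFunc.X) = algebraMap _ _ L) (x : X.left.functionField) :
    ((σ x).num.map (σ : X.left.functionField →+* RatFunc X.left.functionField)) *
      (((σ x).denom.map (algebraMap X.left.functionField (RatFunc X.left.functionField))).comp L) =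
    (((σ x).num.map (algebraMap X.left.functionField (RatFunc X.left.functionField))).comp L) *
      ((σ x).denom.map (σ : X.left.functionField →+* RatFunc X.left.functionField)) := by
  apply assoc_of_Ev σ L hL
  set E := X.left.functionField with hE
  let j : RatFunc E →ₐ[K] RatFunc (RatFunc E) := IsScalarTower.toAlgHom K (RatFunc E) (RatFunc (RatFunc E))
  have hmono := mono_gen (X := X)
  -- points transported by evaluation
  have key : ∀ (φ : E →ₐ[K] RatFunc (RatFunc E)) (r : RatFunc (RatFunc E)) (hr : D.ok _ r)
      (h : ∀ P : E[X], P ≠ 0 → sub φ r P ≠ 0),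
      specMap K ((Ev φ r h).comp σ) ≫ gen X = lift (D.pt r hr) (specMap K φ ≫ gen X) ≫ a.act := by
    intro φ r hr h
    rw [specMap_comp, Category.assoc, ← hσ, ← Category.assoc, comp_lift, D.nat, ← Category.assoc (specMap K (Ev φ r h)),
      ← specMap_comp, Ev_comp_incA]
    congr 2
    exact D.pt_congr (Ev_X φ r h) _ _
  have hokt : D.ok (RatFunc (RatFunc E)) RatFunc.X := by
    exact ok_ratX (K := K) (E := RatFunc E) D
  have hoks : D.ok (RatFunc (RatFunc E)) (algebraMap (RatFunc E) _ RatFunc.X) :=
    D.ok_map (algebraMap (RatFunc E) (RatFunc (RatFunc E))) (ok_ratX (K := K) (E := E) D)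
  have hokm : D.ok (RatFunc (RatFunc E)) (algebraMap _ _ L) := by
    rw [← hop]
    exact D.ok_op hokt hoks
  apply specMap_injective K
  rw [← cancel_mono (gen X)]
  refine (key _ _ hokt _).trans (Eq.trans ?_ (key _ _ hokm _).symm)
  -- the associativity
  have h1 : D.pt (algebraMap _ _ L) hokm = D.pt (K := K) RatFunc.X hokt * D.pt (algebraMap (RatFunc E) _ RatFunc.X) hoks := by
    rw [D.mul]
    exact D.pt_congr hop.symm _ _
  rw [h1, Groth.Agent.Sga3C.Transl.lift_mul_act]
  congr 2
  rw [specMap_comp, specMap_comp, Category.assoc, Category.assoc, ← hσ, ← Category.assoc, comp_lift, D.nat]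
  rfl

end K844.BirAct
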