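import Mathlib

/-!
# Finitely generated algebras with the same field of fractions have a common localization
-/

set_option autoImplicit false

namespace K844.BirAlg

variable {K E : Type*} [Field K] [Field E] [Algebra K E]
variable {C : Type*} [CommRing C] [Algebra K C] {D : Type*} [CommRing D] [Algebra K D]

/-- The localization of (the image of) `C` at `c` inside `E`. -/
def aw (i : C →ₐ[K] E) (c : C) : Subalgebra K E where
  carrier := {x | ∃ (n : ℕ) (u : C), x * i c ^ n = i u}
  mul_mem' := by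
    rintro x y ⟨n, u, hu⟩ ⟨m, v, hv⟩
    exact ⟨n + m, u * v, by rw [map_mul, ← hu, ← hv]; ring⟩
  add_mem' := by
    rintro x y ⟨n, u, hu⟩ ⟨m, v, hv⟩
    exact ⟨n + m, u * c ^ m + v * c ^ n, by
      rw [map_add, map_mul, map_mul, map_pow, map_pow, ← hu, ← hv]; ring⟩
  algebraMap_mem' r := ⟨0, algebraMap K C r, by simp⟩

theorem mem_aw {i : C →ₐ[K] E} {c : C} {x : E} : x ∈ aw i c ↔ ∃ (n : ℕ) (u : C), x * i c ^ n = i u :=
  Iff.rfl

theorem map_mem_aw (i : C →ₐ[K] E) (c u : C) : i u ∈ aw i c := ⟨0, u, by simp⟩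

theorem inv_mem_aw (i : C →ₐ[K] E) (c : C) (hc : i c ≠ 0) : (i c)⁻¹ ∈ aw i c :=
  ⟨1, 1, by rw [pow_one, inv_mul_cancel₀ hc, map_one]⟩

theorem aw_le_iff (i : C →ₐ[K] E) (c : C) (hc : i c ≠ 0) (T : Subalgebra K E) :
    aw i c ≤ T ↔ (∀ u, i u ∈ T) ∧ (i c)⁻¹ ∈ T := by
  constructor
  · intro h
    exact ⟨fun u => h (map_mem_aw i c u), h (inv_mem_aw i c hc)⟩
  · rintro ⟨h1, h2⟩ x ⟨n, u, hu⟩
    have h3 : x = i u * (i c)⁻¹ ^ n := by
      rw [← hu, mul_assoc, ← mul_pow, mul_inv_cancel₀ hc, one_pow, mul_one]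
    rw [h3]
    exact mul_mem (h1 u) (pow_mem h2 n)

/-- the weak fraction property -/
def Frac (i : C →ₐ[K] E) : Prop := ∀ x : E, ∃ u v : C, i v ≠ 0 ∧ x = i u / i v

theorem exists_aw_of_frac {i : C →ₐ[K] E} (hi : Frac i) (s : Finset E) :
    ∃ c : C, i c ≠ 0 ∧ ∀ x ∈ s, x ∈ aw i c := by
  classical
  induction s using Finset.induction_on with
  | empty => exact ⟨1, by simp, by simp⟩
  | insert a s _ ih =>
    obtain ⟨c, hc, hs⟩ := ih
    obtain ⟨u, v, hv, rfl⟩ := hi a
    refine ⟨c * v, by rw [map_mul]; exact mul_ne_zero hc hv, ?_⟩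
    have h1 : ∀ x ∈ aw i c, x ∈ aw i (c * v) := by
      rintro x ⟨n, w, hw⟩
      exact ⟨n, w * v ^ n, by rw [map_mul, mul_pow, ← mul_assoc, hw, map_mul, map_pow]⟩
    intro x hx
    rcases Finset.mem_insert.1 hx with rfl | hx
    · exact ⟨1, u * c, by rw [pow_one, map_mul, map_mul]; field_simp⟩
    · exact h1 x (hs x hx)

theorem exists_common [Algebra.FiniteType K C] [Algebra.FiniteType K D] {i : C →ₐ[K] E}
    {j : D →ₐ[K] E} (hi : Frac i) (hj : Frac j) :
    ∃ (c : C) (d : D), i c ≠ 0 ∧ j d ≠ 0 ∧ aw i c = aw j d := by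
  classical
  -- generators
  obtain ⟨s, hs⟩ := (inferInstance : Algebra.FiniteType K C).out
  obtain ⟨t, ht⟩ := (inferInstance : Algebra.FiniteType K D).out
  have gen : ∀ (T : Subalgebra K E), (∀ x ∈ s.image i, x ∈ T) → ∀ u, i u ∈ T := by
    intro T hT u
    have h1 : u ∈ Algebra.adjoin K (s : Set C) := by rw [hs]; trivial
    have h2 : Algebra.adjoin K (s : Set C) ≤ T.comap i := by
      rw [Algebra.adjoin_le_iff]
      intro x hx
      exact hT _ (Finset.mem_image_of_mem i hx)
    exact h2 h1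
  have gen' : ∀ (T : Subalgebra K E), (∀ x ∈ t.image j, x ∈ T) → ∀ u, j u ∈ T := by
    intro T hT u
    have h1 : u ∈ Algebra.adjoin K (t : Set D) := by rw [ht]; trivial
    have h2 : Algebra.adjoin K (t : Set D) ≤ T.comap j := by
      rw [Algebra.adjoin_le_iff]
      intro x hx
      exact hT _ (Finset.mem_image_of_mem j hx)
    exact h2 h1
  obtain ⟨d₁, hd₁, h1⟩ := exists_aw_of_frac hj (s.image i)
  have h1 := gen _ h1
  obtain ⟨c₁, hc₁, h2⟩ := exists_aw_of_frac hi (insert (j d₁)⁻¹ (t.image j))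
  have h2' := gen' (aw i c₁) (fun x hx => h2 x (Finset.mem_insert_of_mem hx))
  have h3 : (j d₁)⁻¹ ∈ aw i c₁ := h2 _ (Finset.mem_insert_self _ _)
  obtain ⟨n, e, he⟩ := h1 c₁
  have he0 : j e ≠ 0 := by rw [← he]; exact mul_ne_zero hc₁ (pow_ne_zero _ hd₁)
  have hde : j (d₁ * e) ≠ 0 := by rw [map_mul]; exact mul_ne_zero hd₁ he0
  have hmono : ∀ x ∈ aw j d₁, x ∈ aw j (d₁ * e) := by
    rintro x ⟨n, w, hw⟩
    exact ⟨n, w * e ^ n, by rw [map_mul, mul_pow, ← mul_assoc, hw, map_mul, map_pow]⟩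
  refine ⟨c₁, d₁ * e, hc₁, hde, le_antisymm ?_ ?_⟩
  · rw [aw_le_iff i c₁ hc₁]
    refine ⟨fun u => hmono _ (h1 u), ?_⟩
    have h4 : (i c₁)⁻¹ = j (d₁ ^ (n + 1)) * (j (d₁ * e))⁻¹ := by
      rw [map_mul, map_pow, ← he]
      field_simp
      ring
    rw [h4]
    exact mul_mem (map_mem_aw j _ _) (inv_mem_aw j _ hde)
  · rw [aw_le_iff j _ hde]
    refine ⟨h2', ?_⟩
    have h4 : (j (d₁ * e))⁻¹ = (j d₁)⁻¹ ^ (n + 1) * (i c₁)⁻¹ := by
      rw [map_mul, ← he, pow_succ, inv_pow]
      field_simp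
    rw [h4]
    exact mul_mem (pow_mem h3 _) (inv_mem_aw i _ hc₁)

/-- the inclusion into the localization -/
def toAw (i : C →ₐ[K] E) (c : C) : C →ₐ[K] aw i c := i.codRestrict _ (map_mem_aw i c)

theorem isLocalization_aw (i : C →ₐ[K] E) (hi : Function.Injective i) (c : C) (hc : i c ≠ 0) :
    @IsLocalization.Away C _ c (aw i c) _ (toAw i c).toRingHom.toAlgebra := by
  letI := (toAw i c).toRingHom.toAlgebra
  have hm : ∀ u, algebraMap C (aw i c) u = ⟨i u, map_mem_aw i c u⟩ := fun _ => rfl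
  refine ⟨?_, ?_, ?_⟩
  · rintro ⟨_, n, rfl⟩
    have h1 : algebraMap C (aw i c) c * ⟨(i c)⁻¹, inv_mem_aw i c hc⟩ = 1 := by
      apply Subtype.ext
      exact mul_inv_cancel₀ hc
    change IsUnit (algebraMap C (aw i c) (c ^ n))
    rw [map_pow]
    exact (IsUnit.of_mul_eq_one _ h1).pow n
  · rintro ⟨x, n, u, hu⟩
    refine ⟨(u, ⟨c ^ n, n, rfl⟩), ?_⟩
    apply Subtype.ext
    change x * i (c ^ n) = i u
    rw [map_pow, hu]
  · intro x y hxy
    refine ⟨1, ?_⟩
    have h1 : i x = i y := congrArg Subtype.val hxy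
    rw [hi h1]

/-- A simple transcendental extension of a field has a polynomial model adapted to a finite type algebra. -/
theorem exists_model (F : IntermediateField K E) (a : E) (ha : Transcendental F a)
    (htop : IntermediateField.adjoin F {a} = ⊤) (ι : Type*) [Unique ι] [Algebra.FiniteType K C] {i : C →ₐ[K] E} (hi : Frac i) :
    ∃ (B : Subalgebra K F), B.FG ∧ Function.Injective (MvPolynomial.aeval (R := B) (fun _ : ι => a)) ∧
      Frac ((MvPolynomial.aeval (R := B) (fun _ : ι => a)).restrictScalars K) := by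
  classical
  obtain ⟨s, hs⟩ := (inferInstance : Algebra.FiniteType K C).out
  have h1 : ∀ x : E, ∃ r s : Polynomial F, x = Polynomial.aeval a r / Polynomial.aeval a s := by
    intro x
    rw [← IntermediateField.mem_adjoin_simple_iff, htop]
    trivial
  choose P Q hPQ using h1
  set T : Set F := ⋃ x ∈ s, ((P (i x)).coeffs ∪ (Q (i x)).coeffs : Finset F) with hT
  have hTf : T.Finite := by
    apply Set.Finite.biUnion s.finite_toSet
    intro x _
    exact Finset.finite_toSet _
  set B := Algebra.adjoin K T with hB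
  have hinj : Function.Injective (MvPolynomial.aeval (R := B) (fun _ : ι => a)) := by
    have h2 : AlgebraicIndependent F (fun _ : ι => a) := algebraicIndependent_unique_type_iff.2 ha
    have h3 : Function.Injective (algebraMap B F) := Subtype.val_injective
    exact h2.restrictScalars h3
  refine ⟨B, ⟨hTf.toFinset, by simp [hB]⟩, hinj, ?_⟩
  set j := (MvPolynomial.aeval (R := B) (fun _ : ι => a)).restrictScalars K with hj
  let L := IntermediateField.adjoin K (Set.range j)
  -- polynomials with coefficients in `T` have value in the range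
  have hpoly : ∀ P : Polynomial F, (∀ n, P.coeff n ∈ B) → Polynomial.aeval a P ∈ L := by
    intro P hP
    rw [Polynomial.aeval_eq_sum_range]
    apply sum_mem
    intro n _
    rw [Algebra.smul_def]
    apply mul_mem
    · apply IntermediateField.subset_adjoin
      exact ⟨MvPolynomial.C ⟨P.coeff n, hP n⟩, by rw [hj]; simp⟩
    · apply pow_mem
      apply IntermediateField.subset_adjoin
      exact ⟨MvPolynomial.X default, by rw [hj]; simp⟩
  have hC : ∀ u : C, i u ∈ L := by
    intro u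
    have h1 : u ∈ Algebra.adjoin K (s : Set C) := by rw [hs]; trivial
    have h2 : Algebra.adjoin K (s : Set C) ≤ L.toSubalgebra.comap i := by
      rw [Algebra.adjoin_le_iff]
      intro x hx
      change i x ∈ L
      rw [hPQ (i x)]
      have hmem : ∀ y ∈ ((P (i x)).coeffs ∪ (Q (i x)).coeffs : Finset F), y ∈ B := by
        intro y hy
        apply Algebra.subset_adjoin
        exact Set.mem_biUnion hx hy
      apply div_mem
      · apply hpoly
        intro n
        by_cases h0 : (P (i x)).coeff n = 0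
        · rw [h0]; exact zero_mem B
        · exact hmem _ (Finset.mem_union_left _ (Polynomial.coeff_mem_coeffs h0))
      · apply hpoly
        intro n
        by_cases h0 : (Q (i x)).coeff n = 0
        · rw [h0]; exact zero_mem B
        · exact hmem _ (Finset.mem_union_right _ (Polynomial.coeff_mem_coeffs h0))
    exact h2 h1
  intro x
  have hx : x ∈ L := by
    obtain ⟨u, v, _, rfl⟩ := hi x
    exact div_mem (hC u) (hC v)
  obtain ⟨r, hr, t, ht, hxrt⟩ := IntermediateField.mem_adjoin_iff_div.1 hx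
  have hadj : Algebra.adjoin K (Set.range j) = j.range := by
    rw [← AlgHom.coe_range, Algebra.adjoin_eq]
  rw [hadj] at hr ht
  obtain ⟨r, rfl⟩ := hr
  obtain ⟨t, rfl⟩ := ht
  by_cases h0 : j t = 0
  · refine ⟨0, 1, ?_, ?_⟩
    · simp
    · have : x = 0 := by rw [hxrt]; change j r / j t = 0; rw [h0, div_zero]
      rw [this]; simp
  · exact ⟨r, t, h0, hxrt⟩

end K844.BirAlg
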