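import Mathlib

/-!
# Rational actions of the additive and multiplicative groups: the algebraic core

A field `E` with a "rational coaction" `σ : E → E(t)` of `𝔾_a` or `𝔾_m` which is not the
constant one is a simple transcendental extension of its subfield of invariants.
-/

set_option autoImplicit false

namespace K844.BirCore

open Polynomial

section Fractions

variable {M : Type*} [Field M]

theorem frac_unique {A B A' B' : M[X]} (h1 : IsCoprime A B) (h2 : IsCoprime A' B')
    (h : A * B' = A' * B) (hB : B ≠ 0) : ∃ c : M, c ≠ 0 ∧ A' = C c * A ∧ B' = C c * B := by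
  have h3 : B ∣ B' := h1.symm.dvd_of_dvd_mul_left (h ▸ Dvd.intro_left _ rfl)
  have h4 : B' ∣ B := h2.symm.dvd_of_dvd_mul_left (h.symm ▸ Dvd.intro_left _ rfl)
  obtain ⟨u, hu⟩ := associated_of_dvd_dvd h3 h4
  obtain ⟨c, hc, hcu⟩ := Polynomial.isUnit_iff.1 u.isUnit
  refine ⟨c, hc.ne_zero, ?_, ?_⟩
  · rw [← hu, ← hcu] at h
    have : (C c * A) * B = A' * B := by rw [← h]; ring
    exact (mul_right_cancel₀ hB this).symm
  · rw [← hu, ← hcu]; ring

end Fractions

variable {E : Type*} [Field E]

/-- the canonical inclusion -/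
noncomputable abbrev inc (E : Type*) [Field E] : E →+* RatFunc E := algebraMap E (RatFunc E)

variable (σ : E →+* RatFunc E)

/-- `σ a` is a polynomial -/
def IsP (a : E) (P : E[X]) : Prop := σ a = algebraMap E[X] (RatFunc E) P

variable {σ}

theorem IsP.add {a b : E} {P Q : E[X]} (h : IsP σ a P) (h' : IsP σ b Q) : IsP σ (a + b) (P + Q) := by
  unfold IsP at *; rw [map_add, map_add, h, h']

theorem IsP.sub {a b : E} {P Q : E[X]} (h : IsP σ a P) (h' : IsP σ b Q) : IsP σ (a - b) (P - Q) := by
  unfold IsP at *; rw [map_sub, map_sub, h, h']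

theorem IsP.mul {a b : E} {P Q : E[X]} (h : IsP σ a P) (h' : IsP σ b Q) : IsP σ (a * b) (P * Q) := by
  unfold IsP at *; rw [map_mul, map_mul, h, h']

theorem IsP.pow {a : E} {P : E[X]} (h : IsP σ a P) (n : ℕ) : IsP σ (a ^ n) (P ^ n) := by
  unfold IsP at *; rw [map_pow, map_pow, h]

theorem IsP.unique {a : E} {P Q : E[X]} (h : IsP σ a P) (h' : IsP σ a Q) : P = Q :=
  RatFunc.algebraMap_injective E (h.symm.trans h')

theorem IsP.num {a : E} {P : E[X]} (h : IsP σ a P) : (σ a).num = P := by
  rw [h, RatFunc.num_algebraMap]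

theorem IsP.denom {a : E} {P : E[X]} (h : IsP σ a P) : (σ a).denom = 1 := by
  rw [h, RatFunc.denom_algebraMap]

variable (K : Type*) [Field K] [Algebra K E]

variable (σ) in
/-- the field of invariants -/
noncomputable def inv (hK : ∀ c : K, σ (algebraMap K E c) = inc E (algebraMap K E c)) :
    IntermediateField K E where
  carrier := {x | σ x = inc E x}
  mul_mem' := by
    intro a b ha hb
    change σ (a * b) = inc E (a * b)
    rw [map_mul, map_mul, ha, hb]
  add_mem' := by
    intro a b ha hb
    change σ (a + b) = inc E (a + b)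
    rw [map_add, map_add, ha, hb]
  algebraMap_mem' := hK
  inv_mem' := by
    intro a ha
    change σ (a⁻¹) = inc E (a⁻¹)
    rw [map_inv₀, map_inv₀, ha]

variable {K} (hK : ∀ c : K, σ (algebraMap K E c) = inc E (algebraMap K E c))

theorem mem_inv {x : E} : x ∈ inv σ K hK ↔ σ x = inc E x := Iff.rfl

theorem isP_C_of_mem {x : E} (h : x ∈ inv σ K hK) : IsP σ x (C x) := by
  unfold IsP
  rw [(mem_inv hK).1 h]
  exact (RatFunc.algebraMap_C x).symm

theorem mem_of_isP_C {x : E} (h : IsP σ x (C x)) : x ∈ inv σ K hK := by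
  rw [mem_inv, h]
  exact RatFunc.algebraMap_C x

/-- An element whose image is a nonconstant polynomial is transcendental over the invariants. -/
theorem transcendental_of_isP {a : E} {P : E[X]} (h : IsP σ a P) (hP : 0 < P.natDegree) :
    Transcendental (inv σ K hK) a := by
  rw [transcendental_iff]
  intro f hf
  have h1 : algebraMap E[X] (RatFunc E) ((f.map (algebraMap (inv σ K hK) E)).comp P) = 0 := by
    have h2 : σ (aeval a f) = 0 := by rw [hf, map_zero]
    rw [← h2, Polynomial.comp, Polynomial.eval₂_map, Polynomial.aeval_def, Polynomial.hom_eval₂,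
      Polynomial.hom_eval₂, ← h]
    congr 1
    ext x
    have hx : σ (x : E) = inc E x := x.2
    change algebraMap E[X] (RatFunc E) (C (x : E)) = σ (x : E)
    rw [hx]
    exact RatFunc.algebraMap_C _
  have h2 : (f.map (algebraMap (inv σ K hK) E)).comp P = 0 :=
    RatFunc.algebraMap_injective E (by rw [h1, map_zero])
  rw [Polynomial.comp_eq_zero_iff] at h2
  rcases h2 with h2 | ⟨_, h2⟩
  · exact (Polynomial.map_eq_zero _).1 h2
  · rw [h2, Polynomial.natDegree_C] at hP
    exact absurd hP (lt_irrefl _)

end K844.BirCore
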