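import Groth.Agent.BddFin.K844.BirCore

/-!
# Rational actions of the additive group: the algebraic core
-/

set_option autoImplicit false

namespace K844.BirCore

open Polynomial

variable {E : Type*} [Field E] {σ : E →+* RatFunc E}

/-- the axioms of a rational coaction of `𝔾_a` -/
structure GaAct (σ : E →+* RatFunc E) : Prop where
  den : ∀ x, (σ x).denom.eval 0 ≠ 0
  ev : ∀ x, (σ x).num.eval 0 = x * (σ x).denom.eval 0
  assoc : ∀ x, ((σ x).num.map σ) * (((σ x).denom.map (inc E)).comp (X + C RatFunc.X)) =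
    (((σ x).num.map (inc E)).comp (X + C RatFunc.X)) * ((σ x).denom.map σ)

namespace GaAct

variable (h : GaAct σ)

include h

theorem coeff_aux (x : E) : (σ x).num.map σ = ((σ x).num.map (inc E)).comp (X + C RatFunc.X) ∧
    (σ x).denom.map σ = ((σ x).denom.map (inc E)).comp (X + C RatFunc.X) := by
  have hc := RatFunc.isCoprime_num_denom (σ x)
  have h1 : IsCoprime ((σ x).num.map σ) ((σ x).denom.map σ) :=
    hc.map (Polynomial.mapRingHom σ)
  have h2 : IsCoprime (((σ x).num.map (inc E)).comp (X + C RatFunc.X))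
      (((σ x).denom.map (inc E)).comp (X + C RatFunc.X)) := by
    have h3 : IsCoprime ((σ x).num.map (inc E)) ((σ x).denom.map (inc E)) :=
      hc.map (Polynomial.mapRingHom (inc E))
    exact h3.map (Polynomial.compRingHom (X + C RatFunc.X))
  have hm : ((σ x).denom.map σ).Monic := (RatFunc.monic_denom _).map σ
  have hm' : (((σ x).denom.map (inc E)).comp (X + C RatFunc.X)).Monic :=
    ((RatFunc.monic_denom _).map (inc E)).comp_X_add_C _
  obtain ⟨c, hc0, hA, hB⟩ := frac_unique h1 h2 (h.assoc x) hm.ne_zero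
  have h4 : c = 1 := by
    have h5 := hm'.leadingCoeff
    rw [hB, Polynomial.leadingCoeff_mul, Polynomial.leadingCoeff_C, hm.leadingCoeff, mul_one] at h5
    exact h5
  rw [h4, C_1, one_mul] at hA hB
  exact ⟨hA.symm, hB.symm⟩

omit h in
theorem coeff_comp (P : E[X]) (n : ℕ) :
    ((P.map (inc E)).comp (X + C RatFunc.X)).coeff n =
      algebraMap E[X] (RatFunc E) (hasseDeriv n P) := by
  have h1 : (P.map (inc E)).comp (X + C RatFunc.X) = taylor RatFunc.X (P.map (inc E)) := rfl
  have h0 : hasseDeriv n (P.map (inc E)) = (hasseDeriv n P).map (inc E) := by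
    ext i
    rw [hasseDeriv_coeff, Polynomial.coeff_map, Polynomial.coeff_map, hasseDeriv_coeff, map_mul,
      map_natCast]
  rw [h1, taylor_coeff, h0, Polynomial.eval_map]
  have h2 : ∀ Q : E[X], Polynomial.eval₂ (inc E) RatFunc.X Q = algebraMap E[X] (RatFunc E) Q := by
    intro Q
    have h3 : (Polynomial.eval₂RingHom (inc E) RatFunc.X) = algebraMap E[X] (RatFunc E) := by
      ext
      · simp
      · simp
    exact DFunLike.congr_fun h3 Q
  exact h2 _

theorem isP_num_coeff (x : E) (n : ℕ) : IsP σ ((σ x).num.coeff n) (hasseDeriv n (σ x).num) := by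
  have h1 := congrArg (fun P => P.coeff n) (h.coeff_aux x).1
  simp only [Polynomial.coeff_map] at h1
  rw [coeff_comp] at h1
  exact h1

theorem isP_denom_coeff (x : E) (n : ℕ) : IsP σ ((σ x).denom.coeff n) (hasseDeriv n (σ x).denom) := by
  have h1 := congrArg (fun P => P.coeff n) (h.coeff_aux x).2
  simp only [Polynomial.coeff_map] at h1
  rw [coeff_comp] at h1
  exact h1

theorem isP_coeff {a : E} {P : E[X]} (ha : IsP σ a P) (n : ℕ) : IsP σ (P.coeff n) (hasseDeriv n P) := by
  have h1 := h.isP_num_coeff a n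
  rwa [ha.num] at h1

theorem coeff_zero {a : E} {P : E[X]} (ha : IsP σ a P) : P.coeff 0 = a := by
  have h1 := h.ev a
  rw [ha.num, ha.denom, eval_one, mul_one, ← coeff_zero_eq_eval_zero] at h1
  exact h1

theorem eq_div (x : E) : ∃ a b P Q, IsP σ a P ∧ IsP σ b Q ∧ b ≠ 0 ∧ x = a / b := by
  refine ⟨(σ x).num.coeff 0, (σ x).denom.coeff 0, _, _, h.isP_num_coeff x 0, h.isP_denom_coeff x 0,
    ?_, ?_⟩
  · rw [coeff_zero_eq_eval_zero]; exact h.den x
  · rw [coeff_zero_eq_eval_zero, coeff_zero_eq_eval_zero, h.ev, mul_div_assoc, div_self (h.den x), mul_one]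

theorem fix_of_natDegree {a : E} {P : E[X]} (ha : IsP σ a P) (hP : P.natDegree = 0) :
    σ a = inc E a := by
  have h1 := h.coeff_zero ha
  rw [Polynomial.eq_C_of_natDegree_eq_zero hP, h1] at ha
  rw [ha]
  exact RatFunc.algebraMap_C a

theorem exists_pos (hne : σ ≠ inc E) : ∃ a P, IsP σ a P ∧ 0 < P.natDegree := by
  by_contra hcon
  push Not at hcon
  apply hne
  ext x
  obtain ⟨a, b, P, Q, ha, hb, hb0, rfl⟩ := h.eq_div x
  rw [map_div₀, map_div₀, h.fix_of_natDegree ha (Nat.le_zero.1 (hcon a P ha)),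
    h.fix_of_natDegree hb (Nat.le_zero.1 (hcon b Q hb))]

variable {a : E} {P : E[X]} (ha : IsP σ a P) (hP : 0 < P.natDegree)
  (hmin : ∀ b Q, IsP σ b Q → 0 < Q.natDegree → P.natDegree ≤ Q.natDegree)

include ha hmin in
theorem choose_eq_zero (i : ℕ) (h0 : 0 < i) (hi : i < P.natDegree) :
    ((P.natDegree.choose i : ℕ) : E) = 0 := by
  have h1 := h.isP_coeff ha i
  have h2 : (hasseDeriv i P).natDegree ≤ P.natDegree - i := natDegree_hasseDeriv_le P i
  have h3 : (hasseDeriv i P).natDegree = 0 := by
    by_contra h4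
    have := hmin _ _ h1 (Nat.pos_of_ne_zero h4)
    omega
  have h4 : (hasseDeriv i P).coeff (P.natDegree - i) = 0 := by
    apply coeff_eq_zero_of_natDegree_lt
    omega
  rw [hasseDeriv_coeff, Nat.sub_add_cancel hi.le] at h4
  have h5 : P.coeff P.natDegree ≠ 0 := by
    have : P ≠ 0 := by
      rintro rfl
      simp at hi
    exact leadingCoeff_ne_zero.2 this
  exact (mul_eq_zero.1 h4).resolve_right h5

include ha hmin hP in
theorem one_add_X_pow : ((1 : E[X]) + X) ^ P.natDegree = 1 + X ^ P.natDegree := by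
  ext i
  rw [Polynomial.coeff_one_add_X_pow, Polynomial.coeff_add, Polynomial.coeff_one, Polynomial.coeff_X_pow]
  rcases Nat.eq_zero_or_pos i with h0 | h0
  · subst h0
    rw [Nat.choose_zero_right, if_pos rfl, if_neg (by omega)]
    simp
  · rw [if_neg (by omega)]
    rcases lt_trichotomy i P.natDegree with h1 | h1 | h1
    · rw [h.choose_eq_zero ha hmin i h0 h1, if_neg (by omega)]; simp
    · rw [h1, Nat.choose_self]; simp
    · rw [Nat.choose_eq_zero_of_lt h1, if_neg (by omega)]; simp

include ha hmin hP in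
theorem choose_eq_one (q r : ℕ) (hr : r < P.natDegree) :
    (((P.natDegree * q + r).choose r : ℕ) : E) = 1 := by
  have h1 : ((((1 : E[X]) + X) ^ (P.natDegree * q + r)).coeff r) = 1 := by
    rw [pow_add, pow_mul, h.one_add_X_pow ha hP hmin]
    obtain ⟨g, hg⟩ : (X : E[X]) ^ P.natDegree ∣ (1 + X ^ P.natDegree) ^ q - 1 := by
      have := sub_dvd_pow_sub_pow ((1 : E[X]) + X ^ P.natDegree) 1 q
      simpa using this
    rw [sub_eq_iff_eq_add] at hg
    rw [hg, add_mul, one_mul, Polynomial.coeff_add, mul_assoc, Polynomial.coeff_X_pow_mul',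
      if_neg (by omega), zero_add, Polynomial.coeff_one_add_X_pow, Nat.choose_self, Nat.cast_one]
  rwa [Polynomial.coeff_one_add_X_pow] at h1

include ha hmin hP in
theorem dvd_natDegree {b : E} {Q : E[X]} (hb : IsP σ b Q) : P.natDegree ∣ Q.natDegree := by
  by_contra hcon
  set n := P.natDegree with hn
  set m := Q.natDegree with hm
  have hr : 0 < m % n := Nat.pos_of_ne_zero (fun h0 => hcon (Nat.dvd_of_mod_eq_zero h0))
  have hr' : m % n < n := Nat.mod_lt _ hP
  have hdiv : n * (m / n) + m % n = m := Nat.div_add_mod m n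
  have h1 := h.isP_coeff hb (n * (m / n))
  have h2 : (hasseDeriv (n * (m / n)) Q).natDegree ≤ m - n * (m / n) := natDegree_hasseDeriv_le Q _
  have h3 : (hasseDeriv (n * (m / n)) Q).natDegree = 0 := by
    by_contra h4
    have := hmin _ _ h1 (Nat.pos_of_ne_zero h4)
    omega
  have h4 : (hasseDeriv (n * (m / n)) Q).coeff (m % n) = 0 := by
    apply coeff_eq_zero_of_natDegree_lt
    omega
  have h6 : m % n + n * (m / n) = m := by omega
  have h7 : (m.choose (n * (m / n)) : ℕ) = m.choose (m % n) := by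
    rw [← Nat.choose_symm_of_eq_add]
    omega
  have h8 : ((m.choose (m % n) : ℕ) : E) = 1 := by
    have := h.choose_eq_one ha hP hmin (m / n) (m % n) hr'
    rwa [← hn, hdiv] at this
  rw [hasseDeriv_coeff, h6, h7, h8, one_mul] at h4
  have h5 : Q ≠ 0 := by
    rintro rfl
    apply hcon
    simp [hm]
  exact leadingCoeff_ne_zero.2 h5 h4

variable {K : Type*} [Field K] [Algebra K E] (hK : ∀ c : K, σ (algebraMap K E c) = inc E (algebraMap K E c))

theorem leadingCoeff_mem {b : E} {Q : E[X]} (hb : IsP σ b Q) : Q.leadingCoeff ∈ inv σ K hK := by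
  rw [mem_inv]
  apply h.fix_of_natDegree (h.isP_coeff hb Q.natDegree)
  have := natDegree_hasseDeriv_le Q Q.natDegree
  omega

include ha hmin hP in
theorem mem_adjoin {b : E} {Q : E[X]} (hb : IsP σ b Q) :
    b ∈ IntermediateField.adjoin (inv σ K hK) {a} := by
  generalize hd : Q.natDegree = d
  induction d using Nat.strong_induction_on generalizing b Q with
  | _ d ih =>
    rcases Nat.eq_zero_or_pos d with h0 | h0
    · have h1 : b ∈ inv σ K hK := by
        rw [mem_inv]
        exact h.fix_of_natDegree hb (by omega)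
      exact (IntermediateField.adjoin (inv σ K hK) {a}).algebraMap_mem ⟨b, h1⟩
    · obtain ⟨q, hq⟩ := h.dvd_natDegree ha hP hmin hb
      have hP0 : P ≠ 0 := by rintro rfl; simp at hP
      have hQ0 : Q ≠ 0 := by rintro rfl; simp at hd; omega
      set c : E := Q.leadingCoeff / P.leadingCoeff ^ q with hc
      have hcm : c ∈ inv σ K hK :=
        div_mem (h.leadingCoeff_mem hK hb) (pow_mem (h.leadingCoeff_mem hK ha) q)
      have hc0 : c ≠ 0 := div_ne_zero (leadingCoeff_ne_zero.2 hQ0) (pow_ne_zero _ (leadingCoeff_ne_zero.2 hP0))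
      have h1 : IsP σ (b - c * a ^ q) (Q - C c * P ^ q) :=
        hb.sub ((isP_C_of_mem hK hcm).mul (ha.pow q))
      have hnd : (C c * P ^ q).natDegree = Q.natDegree := by
        rw [natDegree_C_mul hc0, natDegree_pow, hq, mul_comm]
      have hlt : (Q - C c * P ^ q).degree < Q.degree := by
        apply degree_sub_lt_left
        · rw [degree_eq_natDegree hQ0, degree_eq_natDegree, hnd]
          intro h2
          rw [h2, natDegree_zero] at hnd
          omega
        · exact hQ0
        · rw [leadingCoeff_mul, leadingCoeff_C, leadingCoeff_pow, hc, div_mul_cancel₀]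
          exact pow_ne_zero _ (leadingCoeff_ne_zero.2 hP0)
      have h2 : (Q - C c * P ^ q).natDegree < d := by
        by_cases h3 : Q - C c * P ^ q = 0
        · rw [h3, natDegree_zero]; exact h0
        · rw [← hd]; exact natDegree_lt_natDegree h3 hlt
      have h3 := ih _ h2 h1 rfl
      have h4 : c * a ^ q ∈ IntermediateField.adjoin (inv σ K hK) {a} := by
        apply mul_mem
        · exact (IntermediateField.adjoin (inv σ K hK) {a}).algebraMap_mem ⟨c, hcm⟩
        · exact pow_mem (IntermediateField.mem_adjoin_simple_self _ a) q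
      have h5 := add_mem h3 h4
      rwa [sub_add_cancel] at h5

include hK in
/-- A nontrivial rational action of `𝔾_a` exhibits the field as purely transcendental of degree one
over the invariants. -/
theorem main (hne : σ ≠ inc E) : ∃ (F : IntermediateField K E) (a : E),
    Transcendental F a ∧ IntermediateField.adjoin F {a} = ⊤ := by
  classical
  have hex : ∃ n, ∃ a P, IsP σ a P ∧ 0 < P.natDegree ∧ P.natDegree = n := by
    obtain ⟨a, P, h1, h2⟩ := h.exists_pos hne
    exact ⟨_, a, P, h1, h2, rfl⟩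
  obtain ⟨a, P, ha, hP, hn⟩ := Nat.find_spec hex
  have hmin : ∀ b Q, IsP σ b Q → 0 < Q.natDegree → P.natDegree ≤ Q.natDegree := by
    intro b Q hb hQ
    rw [hn]
    exact Nat.find_min' hex ⟨b, Q, hb, hQ, rfl⟩
  refine ⟨inv σ K hK, a, transcendental_of_isP hK ha hP, ?_⟩
  rw [eq_top_iff]
  intro x _
  obtain ⟨b, c, Q, R, hb, hc, hc0, rfl⟩ := h.eq_div x
  exact div_mem (h.mem_adjoin ha hP hmin hK hb) (h.mem_adjoin ha hP hmin hK hc)

end GaAct

end K844.BirCore
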