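import Groth.Agent.BddFin.K844.BirAlg
import Groth.Agent.Books.AffBridge

/-!
# A scheme whose function field is simple transcendental is birational to an affine line
-/

set_option autoImplicit false
universe u
open CategoryTheory Limits AlgebraicGeometry
open Groth.Agent.Books.AffBridge

namespace K844.BirGeom

variable {K : Type u} [Field K] (X : Over (Spec (CommRingCat.of K))) [IsIntegral X.left]

/-- the ring homomorphism `K → K(X)` -/
noncomputable def kHom : K →+* X.left.functionField :=
  (Spec.preimage (X.left.fromSpecStalk (genericPoint X.left) ≫ X.hom)).hom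

theorem map_kHom : Spec.map (CommRingCat.ofHom (kHom X)) = X.left.fromSpecStalk (genericPoint X.left) ≫ X.hom := by
  rw [kHom]
  exact Spec.map_preimage _

/-- the `K`-algebra structure of `K(X)` -/
@[reducible] noncomputable def algE : Algebra K X.left.functionField := (kHom X).toAlgebra

attribute [local instance] algE

/-- the generic point as a morphism -/
noncomputable def gen : SpecOver K X.left.functionField ⟶ X :=
  Over.homMk (X.left.fromSpecStalk (genericPoint X.left)) (by
    change _ = Spec.map (CommRingCat.ofHom (kHom X))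
    rw [map_kHom]
    rfl)

theorem iso_opensRange {W P Q S : Scheme.{u}} (p : W ⟶ P) (q : W ⟶ Q) [IsOpenImmersion p] [IsOpenImmersion q]
    (f : P ⟶ S) (g : Q ⟶ S) (h : q ≫ g = p ≫ f) :
    Nonempty (Over.mk (p.opensRange.ι ≫ f) ≅ Over.mk (q.opensRange.ι ≫ g)) := by
  refine ⟨Over.isoMk (p.isoOpensRange.symm ≪≫ q.isoOpensRange) ?_⟩
  change (p.isoOpensRange.inv ≫ q.isoOpensRange.hom) ≫ q.opensRange.ι ≫ g = p.opensRange.ι ≫ f
  rw [Category.assoc, ← Category.assoc q.isoOpensRange.hom, Scheme.Hom.isoOpensRange_hom_ι, h,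
    ← Category.assoc, Scheme.Hom.isoOpensRange_inv_comp]

variable {X}

theorem main [LocallyOfFiniteType X.hom] (F : IntermediateField K X.left.functionField) (a : X.left.functionField)
    (ha : Transcendental F a) (htop : IntermediateField.adjoin F {a} = ⊤) :
    ∃ (Y : Over (Spec (CommRingCat.of K))) (_ : IsIntegral Y.left) (_ : LocallyOfFiniteType Y.hom)
      (U : X.left.Opens) (V : (𝔸(ULift.{u} (Fin 1); Y.left)).Opens), (U : Set X.left).Nonempty ∧
      Nonempty (Over.mk (U.ι ≫ X.hom) ≅
        Over.mk (V.ι ≫ (𝔸(ULift.{u} (Fin 1); Y.left) ↘ Y.left) ≫ Y.hom)) := by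
  obtain ⟨_, ⟨U, hU, rfl⟩, hηU, -⟩ := X.left.isBasis_affineOpens.exists_subset_of_mem_open
    (Set.mem_univ (genericPoint X.left)) isOpen_univ
  replace hU : IsAffineOpen U := hU
  have hUn : Nonempty U := ⟨⟨_, hηU⟩⟩
  let κ : K →+* Γ(X.left, U) := (Spec.preimage (hU.fromSpec ≫ X.hom)).hom
  have hκ : Spec.map (CommRingCat.ofHom κ) = hU.fromSpec ≫ X.hom := Spec.map_preimage _
  let alC : Algebra K Γ(X.left, U) := κ.toAlgebra
  have hcomp : (algebraMap Γ(X.left, U) X.left.functionField).comp κ = kHom X := by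
    have h1 : CommRingCat.ofHom κ ≫ X.left.germToFunctionField U = CommRingCat.ofHom (kHom X) := by
      apply Spec.map_injective
      rw [Spec.map_comp, hκ, map_kHom, ← hU.fromSpecStalk_eq_fromSpecStalk hηU, IsAffineOpen.fromSpecStalk,
        Category.assoc]
    exact congrArg (fun f => f.hom) h1
  let i : Γ(X.left, U) →ₐ[K] X.left.functionField :=
    { (algebraMap Γ(X.left, U) X.left.functionField) with
      commutes' := fun r => DFunLike.congr_fun hcomp r }
  have hfr : IsFractionRing Γ(X.left, U) X.left.functionField :=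
    functionField_isFractionRing_of_isAffineOpen X.left U hU
  have hi : Function.Injective i := IsFractionRing.injective Γ(X.left, U) X.left.functionField
  have hFr : BirAlg.Frac i := by
    intro x
    obtain ⟨u, v, hv, rfl⟩ := IsFractionRing.div_surjective (A := Γ(X.left, U)) x
    refine ⟨u, v, ?_, rfl⟩
    intro h0
    have := hi (h0.trans (map_zero i).symm)
    exact nonZeroDivisors.ne_zero hv this
  have hft : Algebra.FiniteType K Γ(X.left, U) := by
    have h1 : LocallyOfFiniteType (Spec.map (CommRingCat.ofHom κ)) := by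
      rw [hκ]; infer_instance
    rw [HasRingHomProperty.Spec_iff (P := @LocallyOfFiniteType)] at h1
    exact h1
  obtain ⟨B, hB, hinj, hFr'⟩ := BirAlg.exists_model F a ha htop (ULift.{u} (Fin 1)) hFr
  have hBft : Algebra.FiniteType K B := (Subalgebra.fg_iff_finiteType B).1 hB
  set j := (MvPolynomial.aeval (R := B) (fun _ : ULift.{u} (Fin 1) => a)).restrictScalars K with hj
  have hDft : Algebra.FiniteType K (MvPolynomial (ULift.{u} (Fin 1)) B) :=
    Algebra.FiniteType.trans hBft inferInstance
  obtain ⟨c, d, hc, hd, hcd⟩ := BirAlg.exists_common hFr hFr'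
  let e : BirAlg.aw i c ≃ₐ[K] BirAlg.aw j d := Subalgebra.equivOfEq _ _ hcd
  let W : Scheme.{u} := Spec (CommRingCat.of (BirAlg.aw i c))
  let p : W ⟶ X.left := Spec.map (CommRingCat.ofHom (BirAlg.toAw i c).toRingHom) ≫ hU.fromSpec
  let q : W ⟶ 𝔸(ULift.{u} (Fin 1); Spec (CommRingCat.of B)) :=
    Spec.map (CommRingCat.ofHom (e.symm : BirAlg.aw j d →ₐ[K] BirAlg.aw i c).toRingHom) ≫
      Spec.map (CommRingCat.ofHom (BirAlg.toAw j d).toRingHom) ≫
      (AffineSpace.SpecIso (ULift.{u} (Fin 1)) (CommRingCat.of B)).inv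
  have hp1 : IsOpenImmersion (Spec.map (CommRingCat.ofHom (BirAlg.toAw i c).toRingHom)) := by
    let _ := (BirAlg.toAw i c).toRingHom.toAlgebra
    have := BirAlg.isLocalization_aw i hi c hc
    exact IsOpenImmersion.of_isLocalization (S := BirAlg.aw i c) c
  have hq1 : IsOpenImmersion (Spec.map (CommRingCat.ofHom (BirAlg.toAw j d).toRingHom)) := by
    let _ := (BirAlg.toAw j d).toRingHom.toAlgebra
    have := BirAlg.isLocalization_aw j hinj d hd
    exact IsOpenImmersion.of_isLocalization (S := BirAlg.aw j d) d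
  have hp : IsOpenImmersion p := inferInstance
  have he : IsIso (Spec.map (CommRingCat.ofHom (e.symm : BirAlg.aw j d →ₐ[K] BirAlg.aw i c).toRingHom)) := by
    have h1 : IsIso (CommRingCat.ofHom (e.symm : BirAlg.aw j d →ₐ[K] BirAlg.aw i c).toRingHom) := by
      rw [ConcreteCategory.isIso_iff_bijective]
      exact e.symm.bijective
    infer_instance
  have hq : IsOpenImmersion q := inferInstance
  let Y : Over (Spec (CommRingCat.of K)) := SpecOver K B
  have hpK : p ≫ X.hom = Spec.map (CommRingCat.ofHom (algebraMap K (BirAlg.aw i c))) := by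
    rw [Category.assoc, ← hκ, ← Spec.map_comp, ← CommRingCat.ofHom_comp]
    congr 2
    exact (BirAlg.toAw i c).comp_algebraMap
  have hqK : q ≫ (𝔸(ULift.{u} (Fin 1); Y.left) ↘ Y.left) ≫ Y.hom =
      Spec.map (CommRingCat.ofHom (algebraMap K (BirAlg.aw i c))) := by
    change (Spec.map _ ≫ Spec.map _ ≫ (AffineSpace.SpecIso (ULift.{u} (Fin 1)) (CommRingCat.of B)).inv) ≫
      (𝔸(ULift.{u} (Fin 1); Spec (CommRingCat.of B)) ↘ Spec (CommRingCat.of B)) ≫
      Spec.map (CommRingCat.ofHom (algebraMap K B)) = _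
    rw [Category.assoc, Category.assoc, AffineSpace.SpecIso_inv_over_assoc, ← Spec.map_comp, ← Spec.map_comp, ← Spec.map_comp]
    apply congrArg Spec.map
    apply congrArg CommRingCat.ofHom
    apply RingHom.ext
    intro r
    change e.symm (BirAlg.toAw j d (MvPolynomial.C (algebraMap K B r))) = _
    have h1 : (MvPolynomial.C (algebraMap K B r) : MvPolynomial (ULift.{u} (Fin 1)) B) =
      algebraMap K _ r := rfl
    rw [h1, AlgHom.commutes, AlgEquiv.commutes]
  refine ⟨Y, ?_, ?_, p.opensRange, q.opensRange, ?_, iso_opensRange p q _ _ (hqK.trans hpK.symm)⟩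
  · change IsIntegral (Spec (CommRingCat.of B))
    infer_instance
  · change LocallyOfFiniteType (Spec.map (CommRingCat.ofHom (algebraMap K B)))
    rw [HasRingHomProperty.Spec_iff (P := @LocallyOfFiniteType)]
    exact hBft
  · obtain ⟨w⟩ : Nonempty W := inferInstanceAs (Nonempty (PrimeSpectrum (BirAlg.aw i c)))
    exact ⟨p w, w, rfl⟩

end K844.BirGeom
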