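import Groth.Agent.BddFin.K844.BirCore

/-!
# Rational actions of the multiplicative group: the algebraic core
-/

set_option autoImplicit false

namespace K844.BirCore

open Polynomial

variable {E : Type*} [Field E] {σ : E →+* RatFunc E}

/-- the axioms of a rational coaction of `𝔾_m` -/
structure GmAct (σ : E →+* RatFunc E) : Prop where
  den : ∀ x, (σ x).denom.eval 1 ≠ 0
  ev : ∀ x, (σ x).num.eval 1 = x * (σ x).denom.eval 1
  assoc : ∀ x, ((σ x).num.map σ) * (((σ x).denom.map (inc E)).comp (C RatFunc.X * X)) =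
    (((σ x).num.map (inc E)).comp (C RatFunc.X * X)) * ((σ x).denom.map σ)

variable (σ) in
/-- weight vectors -/
def IsW (a : E) (i : ℤ) : Prop := σ a = inc E a * RatFunc.X ^ i

theorem IsW.mul {a b : E} {i j : ℤ} (h : IsW σ a i) (h' : IsW σ b j) : IsW σ (a * b) (i + j) := by
  unfold IsW at *
  rw [map_mul, map_mul, h, h', zpow_add₀ RatFunc.X_ne_zero]
  ring

theorem IsW.inv {a : E} {i : ℤ} (h : IsW σ a i) : IsW σ a⁻¹ (-i) := by
  unfold IsW at *
  rw [map_inv₀, map_inv₀, h, mul_inv, zpow_neg]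

theorem IsW.zpow {a : E} {i : ℤ} (h : IsW σ a i) (k : ℤ) : IsW σ (a ^ k) (k * i) := by
  unfold IsW at *
  rw [map_zpow₀, map_zpow₀, h, mul_zpow, ← zpow_mul, mul_comm i k]

theorem IsW.isP {a : E} {i : ℕ} (h : IsW σ a i) : IsP σ a (C a * X ^ i) := by
  unfold IsW at h
  unfold IsP
  rw [h, map_mul, map_pow, RatFunc.algebraMap_C, RatFunc.algebraMap_X, zpow_natCast]
  rfl

variable {K : Type*} [Field K] [Algebra K E] (hK : ∀ c : K, σ (algebraMap K E c) = inc E (algebraMap K E c))

theorem mem_inv_of_isW {a : E} (h : IsW σ a 0) : a ∈ K844.BirCore.inv σ K hK := by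
  rw [K844.BirCore.mem_inv]
  unfold IsW at h
  rw [h, zpow_zero, mul_one]

namespace GmAct

variable (h : GmAct σ)

include h

theorem coeff_aux (x : E) : ∃ d : ℤ, (∀ n, IsW σ ((σ x).num.coeff n) (n - d)) ∧
    (∀ n, IsW σ ((σ x).denom.coeff n) (n - d)) := by
  have hX : (RatFunc.X : RatFunc E) ≠ 0 := RatFunc.X_ne_zero
  have hc := RatFunc.isCoprime_num_denom (σ x)
  have h1 : IsCoprime ((σ x).num.map σ) ((σ x).denom.map σ) :=
    hc.map (Polynomial.mapRingHom σ)
  have h2 : IsCoprime (((σ x).num.map (inc E)).comp (C RatFunc.X * X))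
      (((σ x).denom.map (inc E)).comp (C RatFunc.X * X)) := by
    have h3 : IsCoprime ((σ x).num.map (inc E)) ((σ x).denom.map (inc E)) :=
      hc.map (Polynomial.mapRingHom (inc E))
    exact h3.map (Polynomial.compRingHom (C RatFunc.X * X))
  have hm : ((σ x).denom.map σ).Monic := (RatFunc.monic_denom _).map σ
  obtain ⟨c, hc0, hA, hB⟩ := frac_unique h1 h2 (h.assoc x) hm.ne_zero
  set d := (σ x).denom.natDegree with hd
  have h4 : c = RatFunc.X ^ d := by
    have h5 := congrArg (fun P => P.coeff d) hB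
    simp only [Polynomial.comp_C_mul_X_coeff, Polynomial.coeff_map, Polynomial.coeff_C_mul] at h5
    have h6 : (σ x).denom.coeff d = 1 := (RatFunc.monic_denom (σ x)).coeff_natDegree
    rw [h6, map_one, map_one, one_mul, mul_one] at h5
    exact h5.symm
  rw [h4] at hA hB
  refine ⟨d, fun n => ?_, fun n => ?_⟩
  · have h5 := congrArg (fun P => P.coeff n) hA
    simp only [Polynomial.comp_C_mul_X_coeff, Polynomial.coeff_map, Polynomial.coeff_C_mul] at h5
    unfold IsW
    rw [zpow_sub₀ hX, zpow_natCast, zpow_natCast, mul_div_assoc', eq_div_iff (pow_ne_zero _ hX),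
      h5, mul_comm]
  · have h5 := congrArg (fun P => P.coeff n) hB
    simp only [Polynomial.comp_C_mul_X_coeff, Polynomial.coeff_map, Polynomial.coeff_C_mul] at h5
    unfold IsW
    rw [zpow_sub₀ hX, zpow_natCast, zpow_natCast, mul_div_assoc', eq_div_iff (pow_ne_zero _ hX),
      h5, mul_comm]

/-- a subfield containing all weight vectors is everything -/
theorem mem_of_weights (L : Subfield E) (hL : ∀ a i, a ≠ 0 → IsW σ a i → a ∈ L) (x : E) : x ∈ L := by
  obtain ⟨d, h1, h2⟩ := h.coeff_aux x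
  have h3 : ∀ P : E[X], (∀ n, IsW σ (P.coeff n) (n - d)) → P.eval 1 ∈ L := by
    intro P hP
    rw [Polynomial.eval_eq_sum_range]
    apply sum_mem
    intro n _
    rw [one_pow, mul_one]
    by_cases h0 : P.coeff n = 0
    · rw [h0]; exact zero_mem L
    · exact hL _ _ h0 (hP n)
  have h4 : x = (σ x).num.eval 1 / (σ x).denom.eval 1 := by
    rw [h.ev, mul_div_assoc, div_self (h.den x), mul_one]
  rw [h4]
  exact div_mem (h3 _ h1) (h3 _ h2)

include hK in
/-- A nontrivial rational action of `𝔾_m` exhibits the field as purely transcendental of degree one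
over the invariants. -/
theorem main (hne : σ ≠ inc E) : ∃ (F : IntermediateField K E) (a : E),
    Transcendental F a ∧ IntermediateField.adjoin F {a} = ⊤ := by
  classical
  -- the group of weights
  let N : AddSubgroup ℤ :=
    { carrier := {i | ∃ a, a ≠ 0 ∧ IsW σ a i}
      zero_mem' := ⟨1, one_ne_zero, by unfold IsW; simp⟩
      add_mem' := by
        rintro i j ⟨a, ha0, ha⟩ ⟨b, hb0, hb⟩
        exact ⟨a * b, mul_ne_zero ha0 hb0, ha.mul hb⟩
      neg_mem' := by
        rintro i ⟨a, ha0, ha⟩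
        exact ⟨a⁻¹, inv_ne_zero ha0, ha.inv⟩ }
  obtain ⟨n, hn⟩ := Int.subgroup_cyclic N
  have hnN : n ∈ N := by rw [hn]; exact AddSubgroup.subset_closure rfl
  have hN : ∀ i ∈ N, n ∣ i := by
    intro i hi
    rw [hn, AddSubgroup.mem_closure_singleton] at hi
    obtain ⟨k, hk⟩ := hi
    exact ⟨k, by rw [← hk, smul_eq_mul, mul_comm]⟩
  have hn0 : n ≠ 0 := by
    rintro rfl
    apply hne
    ext x
    have := h.mem_of_weights (RingHom.eqLocusField σ (inc E)) (fun a i ha0 ha => by
      have h1 : i = 0 := zero_dvd_iff.1 (hN i ⟨a, ha0, ha⟩)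
      rw [h1] at ha
      change σ a = inc E a
      unfold IsW at ha
      rw [ha, zpow_zero, mul_one]) x
    exact this
  obtain ⟨w, m, hm0, hw0, hw, hmn⟩ : ∃ (w : E) (m : ℕ), 0 < m ∧ w ≠ 0 ∧ IsW σ w m ∧
      ∀ i ∈ N, (m : ℤ) ∣ i := by
    obtain ⟨w, hw0, hw⟩ := hnN
    rcases lt_or_gt_of_ne hn0 with h1 | h1
    · refine ⟨w⁻¹, n.natAbs, by omega, inv_ne_zero hw0, ?_, ?_⟩
      · have h2 : ((n.natAbs : ℕ) : ℤ) = - n := by omega
        rw [h2]; exact hw.inv
      · intro i hi
        exact Int.natAbs_dvd.2 (hN i hi)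
    · refine ⟨w, n.natAbs, by omega, hw0, ?_, ?_⟩
      · have h2 : ((n.natAbs : ℕ) : ℤ) = n := by omega
        rw [h2]; exact hw
      · intro i hi
        exact Int.natAbs_dvd.2 (hN i hi)
  refine ⟨inv σ K hK, w, transcendental_of_isP hK hw.isP ?_, ?_⟩
  · rw [natDegree_C_mul_X_pow _ _ hw0]; exact hm0
  · rw [eq_top_iff]
    intro x _
    apply h.mem_of_weights (IntermediateField.adjoin (inv σ K hK) {w}).toSubfield
    intro a i ha0 ha
    obtain ⟨k, hk⟩ := hmn i ⟨a, ha0, ha⟩
    have h1 : IsW σ (a * w ^ (-k)) 0 := by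
      have := ha.mul (hw.zpow (-k))
      rw [hk, show (m : ℤ) * k + -k * m = 0 by ring] at this
      exact this
    have h2 : a = (a * w ^ (-k)) * w ^ k := by
      rw [mul_assoc, ← zpow_add₀ hw0, neg_add_cancel, zpow_zero, mul_one]
    rw [h2]
    apply mul_mem
    · exact (IntermediateField.adjoin (inv σ K hK) {w}).algebraMap_mem ⟨_, mem_inv_of_isW hK h1⟩
    · exact zpow_mem (IntermediateField.mem_adjoin_simple_self _ w) k

end GmAct

end K844.BirCore
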