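import Groth.Agent.BddFin.K844.BirNt
import Groth.Agent.BddFin.K844.BirGa
import Groth.Agent.BddFin.K844.BirGm
import Groth.Agent.BddFin.K844.FinSub2

/-!
# Nontrivial actions of the additive and multiplicative groups: birational structure
-/

set_option autoImplicit false
universe u
open CategoryTheory Limits AlgebraicGeometry MonoidalCategory CartesianMonoidalCategory MonObj GrpObj
open Groth.Agent.Books.AffBridge Groth.Agent.Sga3B.AffPts Groth.Agent.Sga3B.GaPts Groth.Agent.Sga3B.DSPts
  Groth.Agent.Sga3B.DSAff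

namespace K844.BirMain

open K844.BirGeom K844.BirRat K844.BirAct K844.BirNt K844.FinSub

variable {K : Type u} [Field K]

/-- points of `𝔾_a` -/
noncomputable def gaP (T : Over (Spec (CommRingCat.of K))) (x : Fn T) : T ⟶ Red.Ga (Spec (CommRingCat.of K)) :=
  gaPt T x

theorem gaC_gaP (T : Over (Spec (CommRingCat.of K))) (x : Fn T) : (gaC (K := K)).v (gaP T x) = x :=
  gaFn_gaPt T x

theorem gaC_mul {T : Over (Spec (CommRingCat.of K))} (x y : T ⟶ Red.Ga (Spec (CommRingCat.of K))) :
    (gaC (K := K)).v (x * y) = (gaC (K := K)).v x + (gaC (K := K)).v y := gaFn_mul x y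

theorem gaC_one {T : Over (Spec (CommRingCat.of K))} :
    (gaC (K := K)).v (1 : T ⟶ Red.Ga (Spec (CommRingCat.of K))) = 0 := gaFn_one

/-- the parameters of `𝔾_a` -/
noncomputable def gaPar : ParU K (Red.Ga (Spec (CommRingCat.of K))) where
  c := 0
  ok := fun _ _ _ => True
  ok_map := fun _ _ _ => trivial
  ok_c := trivial
  pt := fun {R} _ _ r _ => gaP (SpecOver K R) ((fnSpec (R := K) R).symm r)
  nat := by
    intro R R' _ _ _ _ φ r _
    apply (gaC (K := K)).inj
    rw [(gaC (K := K)).nat, gaC_gaP, gaC_gaP]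
    exact fnMap_specMap φ r
  one := by
    intro R _ _
    apply (gaC (K := K)).inj
    rw [gaC_gaP, gaC_one, map_zero, map_zero]
  op := fun r r' => r + r'
  ok_op := fun _ _ => trivial
  mul := by
    intro R _ _ r r' _ _
    apply (gaC (K := K)).inj
    rw [gaC_mul, gaC_gaP, gaC_gaP, gaC_gaP, map_add]
  ok_X := trivial
  coord := gaC
  f := 1
  f_ne := one_ne_zero
  ok_iff := by
    intro R _ _ r
    simp
  v_ok := by
    intro T t
    simp
  v_pt := by
    intro R _ _ r _
    exact gaC_gaP _ _

/-- points of `𝔾_m` -/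
noncomputable def gmPt (T : Over (Spec (CommRingCat.of K))) (u : (Fn T)ˣ) : T ⟶ Red.Gm (Spec (CommRingCat.of K)) :=
  dsEquiv T ℤ ((Units.coeHom _).comp (zpowersHom _ u))

theorem gmC_gmPt (T : Over (Spec (CommRingCat.of K))) (u : (Fn T)ˣ) : (gmC (K := K)).v (gmPt T u) = u := by
  change dsChar (dsEquiv T ℤ _) (Multiplicative.ofAdd 1) = _
  rw [dsChar_dsEquiv]
  change ((u ^ (1 : ℤ) : (Fn T)ˣ) : Fn T) = u
  rw [zpow_one]

/-- the unit attached to an admissible parameter -/
noncomputable def un {R : Type u} [CommRing R] [Algebra K R] {r : R} (h : IsUnit r) : (Fn (SpecOver K R))ˣ :=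
  (h.map (fnSpec (R := K) R).symm).unit

theorem v_gm {R : Type u} [CommRing R] [Algebra K R] {r : R} (h : IsUnit r) :
    (gmC (K := K)).v (gmPt (SpecOver K R) (un h)) = (fnSpec (R := K) R).symm r := gmC_gmPt _ _

/-- the parameters of `𝔾_m` -/
noncomputable def gmPar : ParU K (Red.Gm (Spec (CommRingCat.of K))) where
  c := 1
  ok := fun _ _ r => IsUnit r
  ok_map := fun φ _ h => h.map φ
  ok_c := isUnit_one
  pt := fun {R} _ _ r h => gmPt (SpecOver K R) (un h)
  nat := by
    intro R R' _ _ _ _ φ r _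
    apply (gmC (K := K)).inj
    rw [(gmC (K := K)).nat, v_gm, v_gm]
    exact fnMap_specMap φ r
  one := by
    intro R _ _
    apply (gmC (K := K)).inj
    rw [v_gm, gmC_one, map_one, map_one]
  op := fun r r' => r * r'
  ok_op := fun h h' => h.mul h'
  mul := by
    intro R _ _ r r' _ _
    apply (gmC (K := K)).inj
    rw [gmC_mul, v_gm, v_gm, v_gm, map_mul]
  ok_X := by
    intro E _ _
    apply IsLocalization.map_units (Rl (algebraMap K E 1)) (⟨Polynomial.X, ?_⟩ : (pr (algebraMap K E 1)).primeCompl)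
    change Polynomial.X ∉ pr (algebraMap K E 1)
    intro h
    have h1 : Polynomial.eval (algebraMap K E 1) Polynomial.X = 0 := h
    rw [Polynomial.eval_X, map_one] at h1
    exact one_ne_zero h1
  coord := gmC
  f := Polynomial.X
  f_ne := Polynomial.X_ne_zero
  ok_iff := by
    intro R _ _ r
    simp
  v_ok := by
    intro T t
    rw [Polynomial.aeval_X]
    exact isUnit_gmC t
  v_pt := by
    intro R _ _ r h
    exact v_gm h

attribute [local instance] algE

/-- The conclusion of the theorem. -/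
def Concl (X : Over (Spec (CommRingCat.of K))) : Prop :=
  ∃ (Y : Over (Spec (CommRingCat.of K))) (_ : IsIntegral Y.left) (_ : LocallyOfFiniteType Y.hom)
      (U : X.left.Opens) (V : (𝔸(ULift.{u} (Fin 1); Y.left)).Opens), (U : Set X.left).Nonempty ∧
      Nonempty (Over.mk (U.ι ≫ X.hom) ≅
        Over.mk (V.ι ≫ (𝔸(ULift.{u} (Fin 1); Y.left) ↘ Y.left) ≫ Y.hom))

variable (X : Over (Spec (CommRingCat.of K))) [IsIntegral X.left] [LocallyOfFiniteType X.hom] [IsSeparated X.hom]

theorem main_ga (a : AlgGrp.Action (Red.Ga (Spec (CommRingCat.of K))) X)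
    (ha : a.act ≠ snd (Red.Ga (Spec (CommRingCat.of K))) X) : Concl X := by
  obtain ⟨σ, h1, h2⟩ := exists_coaction (gaPar (K := K)).toPar a
  have hc : algebraMap K X.left.functionField (gaPar (K := K)).toPar.c = 0 := map_zero _
  rw [hc] at h1
  have hact : K844.BirCore.GaAct (σ : X.left.functionField →+* RatFunc X.left.functionField) := by
    refine ⟨fun x => (h1 x).1, fun x => (h1 x).2, fun x => ?_⟩
    apply assoc_coaction (gaPar (K := K)).toPar a σ h2 (Polynomial.X + Polynomial.C RatFunc.X)
    · rw [Polynomial.natDegree_X_add_C]; exact one_pos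
    · change RatFunc.X + algebraMap _ _ RatFunc.X = _
      rw [map_add, RatFunc.algebraMap_X, RatFunc.algebraMap_C]
      rfl
  have hne : (σ : X.left.functionField →+* RatFunc X.left.functionField) ≠
      K844.BirCore.inc X.left.functionField := by
    intro h3
    apply ha
    apply ext_of_zpt (gaPar (K := K)) X
    have h4 : σ = incA K X.left.functionField := by
      apply AlgHom.coe_ringHom_injective
      exact h3
    refine Eq.trans h2 ?_
    rw [h4, zpt, lift_snd]
  obtain ⟨F, b, hb, hF⟩ := hact.main (K := K) (fun c => by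
    change σ (algebraMap K _ c) = algebraMap _ _ (algebraMap K _ c)
    rw [σ.commutes]
    exact IsScalarTower.algebraMap_apply _ _ _ _) hne
  exact K844.BirGeom.main F b hb hF

theorem main_gm (a : AlgGrp.Action (Red.Gm (Spec (CommRingCat.of K))) X)
    (ha : a.act ≠ snd (Red.Gm (Spec (CommRingCat.of K))) X) : Concl X := by
  obtain ⟨σ, h1, h2⟩ := exists_coaction (gmPar (K := K)).toPar a
  have hc : algebraMap K X.left.functionField (gmPar (K := K)).toPar.c = 1 := map_one _
  rw [hc] at h1
  have hact : K844.BirCore.GmAct (σ : X.left.functionField →+* RatFunc X.left.functionField) := by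
    refine ⟨fun x => (h1 x).1, fun x => (h1 x).2, fun x => ?_⟩
    apply assoc_coaction (gmPar (K := K)).toPar a σ h2 (Polynomial.C RatFunc.X * Polynomial.X)
    · rw [Polynomial.natDegree_C_mul_X _ RatFunc.X_ne_zero]; exact one_pos
    · change RatFunc.X * algebraMap _ _ RatFunc.X = _
      rw [map_mul, RatFunc.algebraMap_X, RatFunc.algebraMap_C, mul_comm]
      rfl
  have hne : (σ : X.left.functionField →+* RatFunc X.left.functionField) ≠
      K844.BirCore.inc X.left.functionField := by
    intro h3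
    apply ha
    apply ext_of_zpt (gmPar (K := K)) X
    have h4 : σ = incA K X.left.functionField := by
      apply AlgHom.coe_ringHom_injective
      exact h3
    refine Eq.trans h2 ?_
    rw [h4, zpt, lift_snd]
  obtain ⟨F, b, hb, hF⟩ := hact.main (K := K) (fun c => by
    change σ (algebraMap K _ c) = algebraMap _ _ (algebraMap K _ c)
    rw [σ.commutes]
    exact IsScalarTower.algebraMap_apply _ _ _ _) hne
  exact K844.BirGeom.main F b hb hF

/-- Restriction of an action along a homomorphism. -/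
noncomputable def restr {G H X : Over (Spec (CommRingCat.of K))} [GrpObj G] [GrpObj H] (φ : H ⟶ G) [IsMonHom φ]
    (a : AlgGrp.Action G X) : AlgGrp.Action H X where
  act := (φ ▷ X) ≫ a.act
  one_act := by
    rw [← Category.assoc, ← comp_whiskerRight, IsMonHom.one_hom, a.one_act]
  mul_act := by
    have h := a.mul_act
    rw [← Category.assoc, ← comp_whiskerRight, IsMonHom.mul_hom, comp_whiskerRight,
      Category.assoc, h]
    simp only [MonoidalCategory.tensorHom_def, comp_whiskerRight, Category.assoc, MonoidalCategory.whiskerLeft_comp,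
      whisker_assoc, Iso.inv_hom_id_assoc]
    rw [whisker_exchange_assoc (f := φ) (g := a.act)]
    rw [whisker_exchange_assoc (f := φ) (g := φ ▷ X)]
    rw [← associator_naturality_left_assoc]

/-- **Main theorem**: a homomorphism from `𝔾_a` or `𝔾_m` acting nontrivially. -/
theorem main {G : Over (Spec (CommRingCat.of K))} [GrpObj G] (a : AlgGrp.Action G X)
    {H : Over (Spec (CommRingCat.of K))} [GrpObj H]
    (hH : Nonempty (Grp.mk H ≅ Grp.mk (Red.Ga (Spec (CommRingCat.of K)))) ∨
      Nonempty (Grp.mk H ≅ Grp.mk (Red.Gm (Spec (CommRingCat.of K)))))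
    (i : H ⟶ G) [IsMonHom i] (ha : (i ▷ X) ≫ a.act ≠ snd H X) : Concl X := by
  rcases hH with ⟨⟨e⟩⟩ | ⟨⟨e⟩⟩
  · have h1 : IsMonHom e.inv.hom.hom := e.inv.hom.isMonHom_hom
    have hgf : e.hom.hom.hom ≫ e.inv.hom.hom = 𝟙 _ := congrArg (fun h => h.hom.hom) e.hom_inv_id
    apply main_ga X (restr (e.inv.hom.hom ≫ i) a)
    intro h2
    apply ha
    have h3 : (i ▷ X) ≫ a.act = (e.hom.hom.hom ▷ X) ≫ (restr (e.inv.hom.hom ≫ i) a).act := by
      change _ = (e.hom.hom.hom ▷ X) ≫ ((e.inv.hom.hom ≫ i) ▷ X) ≫ a.act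
      rw [← comp_whiskerRight_assoc, ← Category.assoc e.hom.hom.hom, hgf, Category.id_comp]
    rw [h3, h2, whiskerRight_snd]
  · have h1 : IsMonHom e.inv.hom.hom := e.inv.hom.isMonHom_hom
    have hgf : e.hom.hom.hom ≫ e.inv.hom.hom = 𝟙 _ := congrArg (fun h => h.hom.hom) e.hom_inv_id
    apply main_gm X (restr (e.inv.hom.hom ≫ i) a)
    intro h2
    apply ha
    have h3 : (i ▷ X) ≫ a.act = (e.hom.hom.hom ▷ X) ≫ (restr (e.inv.hom.hom ≫ i) a).act := by
      change _ = (e.hom.hom.hom ▷ X) ≫ ((e.inv.hom.hom ≫ i) ▷ X) ≫ a.act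
      rw [← comp_whiskerRight_assoc, ← Category.assoc e.hom.hom.hom, hgf, Category.id_comp]
    rw [h3, h2, whiskerRight_snd]

end K844.BirMain
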