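import Mathlib.RingTheory.AdjoinRoot
import Mathlib.Algebra.Polynomial.Taylor
import Mathlib.Algebra.Polynomial.HasseDeriv

/-!
# Polynomials whose zero scheme is a subgroup of the additive or the multiplicative group
-/

set_option autoImplicit false
universe u

open Polynomial

namespace K844.SubAlg

variable {K : Type u} [Field K] (P : K[X]) (hP : P.Monic)

/-- The two-variable root ring. -/
abbrev C2 : Type u := AdjoinRoot (P.map (algebraMap K (AdjoinRoot P)))

/-- the first root -/
noncomputable abbrev r1 : C2 P := algebraMap (AdjoinRoot P) (C2 P) (AdjoinRoot.root P)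
/-- the second root -/
noncomputable abbrev r2 : C2 P := AdjoinRoot.root (P.map (algebraMap K (AdjoinRoot P)))

theorem aeval_r1 : aeval (r1 P) P = 0 := by
  rw [r1, aeval_algebraMap_apply, AdjoinRoot.aeval_eq, AdjoinRoot.mk_self, map_zero]

theorem aeval_r2 : aeval (r2 P) P = 0 := by
  have := AdjoinRoot.eval₂_root (P.map (algebraMap K (AdjoinRoot P)))
  rw [eval₂_map] at this
  exact this

include hP in
theorem nontrivial_of_pos (hn : 0 < P.natDegree) : Nontrivial (AdjoinRoot P) := by
  apply AdjoinRoot.nontrivial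
  rw [degree_eq_natDegree hP.ne_zero]
  exact_mod_cast hn.ne'

theorem hasseDeriv_map {R S : Type*} [CommRing R] [CommRing S] (f : R →+* S) (k : ℕ) (p : R[X]) :
    hasseDeriv k (p.map f) = (hasseDeriv k p).map f := by
  ext i
  rw [coeff_map, hasseDeriv_coeff, hasseDeriv_coeff, coeff_map, map_mul, map_natCast]

include hP in
theorem hasseDeriv_eq (hn : 0 < P.natDegree) (h : aeval (r1 P + r2 P) P = 0) :
    P.coeff 0 = 0 ∧ ∀ k, 0 < k → hasseDeriv k P = C (P.coeff k) := by
  have hnt := nontrivial_of_pos P hP hn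
  have hPBm : (P.map (algebraMap K (AdjoinRoot P))).Monic := hP.map _
  -- the Taylor expansion
  have h1 : taylor (AdjoinRoot.root P) (P.map (algebraMap K (AdjoinRoot P))) =
      P.map (algebraMap K (AdjoinRoot P)) := by
    have h2 : P.map (algebraMap K (AdjoinRoot P)) ∣
        taylor (AdjoinRoot.root P) (P.map (algebraMap K (AdjoinRoot P))) := by
      rw [← AdjoinRoot.mk_eq_zero]
      have h3 : AdjoinRoot.mk (P.map (algebraMap K (AdjoinRoot P)))
          (taylor (AdjoinRoot.root P) (P.map (algebraMap K (AdjoinRoot P)))) =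
            aeval (r1 P + r2 P) P := by
        rw [taylor_apply, ← AdjoinRoot.aeval_eq, aeval_comp]
        rw [map_add, aeval_X, aeval_C, aeval_map_algebraMap, add_comm]
      rw [h3, h]
    exact Polynomial.eq_of_monic_of_dvd_of_natDegree_le hPBm (hPBm.comp_X_add_C _) h2
      (natDegree_taylor _ _).le
  -- coefficients
  have h4 : ∀ k, aeval (AdjoinRoot.root P) (hasseDeriv k P) =
      algebraMap K (AdjoinRoot P) (P.coeff k) := by
    intro k
    have h5 := congrArg (fun f => f.coeff k) h1
    simp only [taylor_coeff] at h5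
    rw [coeff_map, hasseDeriv_map, eval_map] at h5
    exact h5
  have h6 : ∀ k, P ∣ hasseDeriv k P - C (P.coeff k) := by
    intro k
    rw [← AdjoinRoot.mk_eq_zero, map_sub, ← AdjoinRoot.aeval_eq, h4 k, AdjoinRoot.mk_C]
    exact sub_self _
  constructor
  · have h7 := h6 0
    rw [hasseDeriv_zero', dvd_sub_self_left] at h7
    by_contra hne
    have h8 := natDegree_le_of_dvd h7 (C_ne_zero.2 hne)
    rw [natDegree_C] at h8
    omega
  · intro k hk
    rw [← sub_eq_zero]
    apply eq_zero_of_dvd_of_natDegree_lt (h6 k)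
    have h8 := natDegree_hasseDeriv_le P k
    have h9 := natDegree_sub_le (hasseDeriv k P) (C (P.coeff k))
    rw [natDegree_C] at h9
    omega

include hP in
/-- Additive case. -/
theorem additive (hn : 0 < P.natDegree) (h : aeval (r1 P + r2 P) P = 0) {B : Type*} [CommRing B]
    [Algebra K B] (a b : B) : aeval (a + b) P = aeval a P + aeval b P := by
  obtain ⟨h0, hk⟩ := hasseDeriv_eq P hP hn h
  have h1 : taylor a (P.map (algebraMap K B)) = P.map (algebraMap K B) + C (aeval a P) := by
    ext k
    rw [taylor_coeff, hasseDeriv_map, eval_map, coeff_add, coeff_map, coeff_C]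
    rcases Nat.eq_zero_or_pos k with rfl | hk'
    · rw [hasseDeriv_zero', h0, map_zero, if_pos rfl, zero_add]; rfl
    · rw [hk k hk', eval₂_C, if_neg hk'.ne', add_zero]
  have h2 := congrArg (fun f => f.eval b) h1
  simp only [taylor_eval, eval_add, eval_C, eval_map] at h2
  rw [add_comm a b, add_comm (aeval a P)]
  exact h2

include hP in
/-- Multiplicative case. -/
theorem multiplicative (hn : 0 < P.natDegree) (hu : IsUnit (AdjoinRoot.root P))
    (h : aeval (r1 P * r2 P) P = 0) : P = X ^ P.natDegree - 1 := by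
  have hnt := nontrivial_of_pos P hP hn
  have hPBm : (P.map (algebraMap K (AdjoinRoot P))).Monic := hP.map _
  have hPBd : (P.map (algebraMap K (AdjoinRoot P))).natDegree = P.natDegree := hP.natDegree_map _
  set Q := (P.map (algebraMap K (AdjoinRoot P))).comp (C (AdjoinRoot.root P) * X) with hQ
  have hQc : ∀ k, Q.coeff k = algebraMap K (AdjoinRoot P) (P.coeff k) * (AdjoinRoot.root P) ^ k := by
    intro k
    rw [hQ, comp_C_mul_X_coeff, coeff_map]
  have h2 : P.map (algebraMap K (AdjoinRoot P)) ∣ Q := by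
    rw [← AdjoinRoot.mk_eq_zero]
    have h3 : AdjoinRoot.mk (P.map (algebraMap K (AdjoinRoot P))) Q = aeval (r1 P * r2 P) P := by
      rw [hQ, ← AdjoinRoot.aeval_eq, aeval_comp]
      rw [map_mul, aeval_X, aeval_C, aeval_map_algebraMap]
    rw [h3, h]
  have h4 : Q - C ((AdjoinRoot.root P) ^ P.natDegree) * P.map (algebraMap K (AdjoinRoot P)) = 0 := by
    by_contra hne
    have h5 : P.map (algebraMap K (AdjoinRoot P)) ∣
        Q - C ((AdjoinRoot.root P) ^ P.natDegree) * P.map (algebraMap K (AdjoinRoot P)) :=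
      dvd_sub h2 (Dvd.intro_left _ rfl)
    refine hPBm.not_dvd_of_natDegree_lt hne ?_ h5
    rw [hPBd, natDegree_lt_iff_degree_lt hne, degree_lt_iff_coeff_zero]
    intro k hk
    rw [coeff_sub, hQc, coeff_C_mul, coeff_map]
    rcases eq_or_lt_of_le hk with rfl | hk'
    · ring
    · rw [coeff_eq_zero_of_natDegree_lt hk']; simp
  have h5 := congrArg (fun f => f.coeff 0) h4
  simp only [coeff_sub, hQc, coeff_C_mul, coeff_map, pow_zero, mul_one, coeff_zero] at h5
  have hp0 : P.coeff 0 ≠ 0 := by
    intro h0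
    obtain ⟨P', hP'⟩ := X_dvd_iff.2 h0
    have h6 : AdjoinRoot.root P * aeval (AdjoinRoot.root P) P' = 0 := by
      have h7 : aeval (AdjoinRoot.root P) P = 0 := by rw [AdjoinRoot.aeval_eq, AdjoinRoot.mk_self]
      conv_rhs at h7 => rw [← h7]
      have h8 : aeval (AdjoinRoot.root P) (X * P') = 0 := by
        rw [← hP', AdjoinRoot.aeval_eq, AdjoinRoot.mk_self]
      rwa [map_mul, aeval_X] at h8
    have h7 : aeval (AdjoinRoot.root P) P' = 0 := (hu.mul_right_eq_zero).1 h6
    rw [AdjoinRoot.aeval_eq, AdjoinRoot.mk_eq_zero] at h7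
    have hP'0 : P' ≠ 0 := by
      rintro rfl
      rw [mul_zero] at hP'
      exact hP.ne_zero hP'
    have h8 := natDegree_le_of_dvd h7 hP'0
    have h9 : P.natDegree = P'.natDegree + 1 := by
      conv_lhs => rw [hP']
      rw [mul_comm, natDegree_mul_X hP'0]
    omega
  have h6 : AdjoinRoot.root P ^ P.natDegree = 1 := by
    have h7 : algebraMap K (AdjoinRoot P) (P.coeff 0)⁻¹ *
        (algebraMap K (AdjoinRoot P) (P.coeff 0) - AdjoinRoot.root P ^ P.natDegree *
          algebraMap K (AdjoinRoot P) (P.coeff 0)) = 0 := by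
      rw [h5, mul_zero]
    have h8 : algebraMap K (AdjoinRoot P) (P.coeff 0)⁻¹ * algebraMap K (AdjoinRoot P) (P.coeff 0) = 1 := by
      rw [← map_mul, inv_mul_cancel₀ hp0, map_one]
    have h9 : (1 : AdjoinRoot P) - AdjoinRoot.root P ^ P.natDegree = 0 := by
      rw [← h7, mul_sub, h8]
      linear_combination (AdjoinRoot.root P ^ P.natDegree) * h8
    exact (sub_eq_zero.1 h9).symm
  have h7 : P ∣ X ^ P.natDegree - 1 := by
    rw [← AdjoinRoot.mk_eq_zero, map_sub, map_pow, AdjoinRoot.mk_X, h6, map_one, sub_self]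
  symm
  apply Polynomial.eq_of_monic_of_dvd_of_natDegree_le hP _ h7
  · rw [← C_1, natDegree_X_pow_sub_C]
  · rw [← C_1]
    exact monic_X_pow_sub_C _ hn.ne'

end K844.SubAlg
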