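import Groth.Agent.Sga3B.RootHomDict
import Groth.Agent.Sga3B.DSAff
import Groth.Agent.BddFin.K844.SubAlg
import Mathlib.AlgebraicGeometry.Morphisms.Finite
import Mathlib.AlgebraicGeometry.Morphisms.Flat
import Mathlib.FieldTheory.Minpoly.Field
import Mathlib.RingTheory.Flat.TorsionFree
import Mathlib.AlgebraicGeometry.Morphisms.FlatDescent

/-!
# Finite subgroup schemes of the additive and multiplicative groups over a field
-/

set_option autoImplicit false
universe u
open CategoryTheory MonoidalCategory CartesianMonoidalCategory MonObj GrpObj AlgebraicGeometry Limits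
open scoped TensorProduct

namespace K844.FinSub

open Groth.Agent.Books.AffBridge Groth.Agent.Sga3B.DSPts Groth.Agent.Sga3B.GaPts
  Groth.Agent.Sga3B.AffPts Groth.Agent.Sga3B.DSAff Groth.Agent.Sga3B.RootHomDict

variable {K : Type u} [Field K]

instance isIso_toSpecFn (H : Over (Spec (CommRingCat.of K))) [IsAffine H.left] : IsIso (toSpecFn H) := by
  have h1 : IsIso ((Over.forget _).map (toSpecFn H)) := IsAffine.affine (X := H.left)
  exact isIso_of_reflects_iso _ (Over.forget _)

theorem finite_fn (H : Over (Spec (CommRingCat.of K))) [IsFinite H.hom] : Module.Finite K (Fn H) := by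
  have h1 : H.hom.appTop.hom.Finite := H.hom.finite_appTop
  have h2 : ((Scheme.ΓSpecIso (CommRingCat.of K)).inv ≫ H.hom.appTop).hom.Finite := by
    rw [CommRingCat.hom_comp]
    exact h1.comp (RingHom.Finite.of_surjective _
      (Scheme.ΓSpecIso (CommRingCat.of K)).symm.commRingCatIsoToRingEquiv.surjective)
  exact h2

theorem affine_of_finite (H : Over (Spec (CommRingCat.of K))) [IsFinite H.hom] : IsAffine H.left :=
  isAffine_of_isAffineHom H.hom

/-- A coordinate on `G`: a natural injective map to functions. -/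
structure Coord (G : Over (Spec (CommRingCat.of K))) where
  /-- the coordinate of a point -/
  v : ∀ {T : Over (Spec (CommRingCat.of K))}, (T ⟶ G) → Fn T
  nat : ∀ {T T' : Over (Spec (CommRingCat.of K))} (h : T' ⟶ T) (t : T ⟶ G), v (h ≫ t) = fnMap h (v t)
  inj : ∀ {T : Over (Spec (CommRingCat.of K))}, Function.Injective (v : (T ⟶ G) → Fn T)

section

variable {G : Over (Spec (CommRingCat.of K))} (c : Coord G) {H : Over (Spec (CommRingCat.of K))}
  [IsAffine H.left] (i : H ⟶ G)
  (hs : Function.Surjective (Polynomial.aeval (c.v i) : Polynomial K →ₐ[K] Fn H))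

omit [IsAffine H.left] in
theorem affPt_id : affPt H (AlgHom.id K (Fn H)) = toSpecFn H := by
  rw [affPt, specMap_id, Category.comp_id]

include hs in
theorem exists_pt {T : Over (Spec (CommRingCat.of K))} (y : Fn T)
    (hy : Polynomial.aeval y (minpoly K (c.v i)) = 0) : ∃ s : T ⟶ H, fnMap s (c.v i) = y := by
  -- the algebra map
  obtain ⟨g, hg⟩ : ∃ g : Fn H →ₐ[K] Fn T, g (c.v i) = y := by
    have hker : RingHom.ker (Polynomial.aeval (c.v i) : Polynomial K →ₐ[K] Fn H).toRingHom ≤
        RingHom.ker (Polynomial.aeval y : Polynomial K →ₐ[K] Fn T).toRingHom := by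
      intro a ha
      have ha' : a ∈ RingHom.ker (Polynomial.aeval (c.v i) : Polynomial K →ₐ[K] Fn H) := ha
      rw [minpoly.ker_aeval_eq_span_minpoly, Ideal.mem_span_singleton] at ha'
      obtain ⟨b, rfl⟩ := ha'
      change Polynomial.aeval y _ = 0
      rw [map_mul, hy, zero_mul]
    refine ⟨AlgHom.liftOfSurjective (Polynomial.aeval (c.v i)) hs (Polynomial.aeval y) hker, ?_⟩
    have h1 : (AlgHom.liftOfSurjective (Polynomial.aeval (c.v i)) hs (Polynomial.aeval y) hker)
      (Polynomial.aeval (c.v i) Polynomial.X) = Polynomial.aeval y Polynomial.X :=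
        AlgHom.liftOfSurjective_apply _ _ _ _ _
    rwa [Polynomial.aeval_X, Polynomial.aeval_X] at h1
  refine ⟨affPt T g ≫ inv (toSpecFn H), ?_⟩
  have h1 : (affPt T g ≫ inv (toSpecFn H)) ≫ affPt H (AlgHom.id K (Fn H)) = affPt T g := by
    rw [affPt_id, Category.assoc, IsIso.inv_hom_id, Category.comp_id]
  rw [comp_affPt] at h1
  have h2 := (affPt_bijective T).1 h1
  rw [AlgHom.comp_id] at h2
  rw [h2, hg]

include hs in
theorem exists_lift {T : Over (Spec (CommRingCat.of K))} (t : T ⟶ G)
    (ht : Polynomial.aeval (c.v t) (minpoly K (c.v i)) = 0) : ∃ s : T ⟶ H, s ≫ i = t := by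
  obtain ⟨s, hs⟩ := exists_pt c i hs (c.v t) ht
  exact ⟨s, c.inj (by rw [c.nat, hs])⟩

omit [IsAffine H.left] in
theorem aeval_pt {T : Over (Spec (CommRingCat.of K))} (s : T ⟶ H) :
    Polynomial.aeval (c.v (s ≫ i)) (minpoly K (c.v i)) = 0 := by
  rw [c.nat, Polynomial.aeval_algHom_apply, minpoly.aeval, map_zero]

end

section group

variable {G : Over (Spec (CommRingCat.of K))} [GrpObj G] (c : Coord G)
  {H : Over (Spec (CommRingCat.of K))} [GrpObj H]
  [IsAffine H.left] (i : H ⟶ G) [IsMonHom i]
  (hs : Function.Surjective (Polynomial.aeval (c.v i) : Polynomial K →ₐ[K] Fn H))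

/-- transport along an algebra isomorphism. -/
theorem aeval_fnSpec_symm {B : Type u} [CommRing B] [Algebra K B] (y : B) (P : Polynomial K) :
    Polynomial.aeval ((fnSpec (R := K) B).symm y) P = (fnSpec (R := K) B).symm (Polynomial.aeval y P) :=
  Polynomial.aeval_algHom_apply (fnSpec (R := K) B).symm.toAlgHom y P

include hs in
/-- The universal pair of points. -/
theorem universal (op : ∀ {R : Type u} [CommRing R], R → R → R)
    (hop : ∀ {R R' : Type u} [CommRing R] [CommRing R'] (f : R →+* R') (a b : R),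
      f (op a b) = op (f a) (f b))
    (hc : ∀ {T : Over (Spec (CommRingCat.of K))} (x y : T ⟶ G), c.v (x * y) = op (c.v x) (c.v y)) :
    Polynomial.aeval (op (K844.SubAlg.r1 (minpoly K (c.v i))) (K844.SubAlg.r2 (minpoly K (c.v i))))
      (minpoly K (c.v i)) = 0 := by
  set P := minpoly K (c.v i) with hP
  obtain ⟨s1, hs1⟩ := exists_pt c i hs (T := SpecOver K (K844.SubAlg.C2 P))
    ((fnSpec (R := K) _).symm (K844.SubAlg.r1 P)) (by
      rw [aeval_fnSpec_symm, K844.SubAlg.aeval_r1, map_zero])
  obtain ⟨s2, hs2⟩ := exists_pt c i hs (T := SpecOver K (K844.SubAlg.C2 P))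
    ((fnSpec (R := K) _).symm (K844.SubAlg.r2 P)) (by
      rw [aeval_fnSpec_symm, K844.SubAlg.aeval_r2, map_zero])
  have h1 := aeval_pt c i (s1 * s2)
  rw [← hP, MonObj.mul_comp, hc, c.nat, c.nat, hs1, hs2] at h1
  have h2 := hop (fnSpec (R := K) (K844.SubAlg.C2 P)).symm.toRingEquiv.toRingHom
    (K844.SubAlg.r1 P) (K844.SubAlg.r2 P)
  change (fnSpec (R := K) _).symm _ = op ((fnSpec (R := K) _).symm _) ((fnSpec (R := K) _).symm _) at h2
  rw [← h2, aeval_fnSpec_symm] at h1
  exact (map_eq_zero_iff _ (fnSpec (R := K) (K844.SubAlg.C2 P)).symm.injective).1 h1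

omit [IsMonHom i] in
/-- degree is positive -/
theorem natDegree_pos [Module.Finite K (Fn H)] : 0 < (minpoly K (c.v i)).natDegree := by
  have hnt : Nontrivial (Fn H) := by
    have h1 : Nontrivial (Fn (𝟙_ (Over (Spec (CommRingCat.of K))))) := by
      change Nontrivial Γ(Spec (CommRingCat.of K), ⊤)
      exact (Scheme.ΓSpecIso (CommRingCat.of K)).commRingCatIsoToRingEquiv.nontrivial
    exact (fnMap (η[H] : 𝟙_ (Over (Spec (CommRingCat.of K))) ⟶ H)).toRingHom.domain_nontrivial
  exact minpoly.natDegree_pos (Algebra.IsIntegral.isIntegral _)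

end group

end K844.FinSub
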