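import Groth.Agent.BddFin.K844.BirAct
import Groth.Agent.BddFin.K844.FinSub
import Groth.Agent.Sga3B.AdCop
import Mathlib.AlgebraicGeometry.Morphisms.SchemeTheoreticallyDominant

/-!
# Nontrivial actions have nonconstant coaction at the generic point
-/

set_option autoImplicit false
universe u
open CategoryTheory Limits AlgebraicGeometry MonoidalCategory CartesianMonoidalCategory MonObj GrpObj
open Groth.Agent.Books.AffBridge Groth.Agent.Sga3B.AffPts

namespace K844.BirNt

open K844.BirGeom K844.BirRat K844.BirAct Polynomial

variable {K : Type u} [Field K]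

theorem fnMap_affPt {B : Type u} [CommRing B] [Algebra K B] (T : Over (Spec (CommRingCat.of K)))
    (g : B →ₐ[K] Fn T) : (fnMap (affPt T g)).comp (fnSpec (R := K) B).symm.toAlgHom = g := by
  apply (affPt_bijective T).1
  rw [← comp_affPt, affPt_spec]
  have : (fnSpec (R := K) B).toAlgHom.comp (fnSpec (R := K) B).symm.toAlgHom = AlgHom.id K B := by
    ext; simp
  rw [this, specMap_id, Category.comp_id]

theorem affPt_symm (B : Type u) [CommRing B] [Algebra K B] :
    affPt (SpecOver K B) (fnSpec (R := K) B).symm.toAlgHom = 𝟙 _ := by
  rw [affPt_spec]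
  have : (fnSpec (R := K) B).toAlgHom.comp (fnSpec (R := K) B).symm.toAlgHom = AlgHom.id K B := by
    ext; simp
  rw [this, specMap_id]

theorem fnMap_specMap {B B' : Type u} [CommRing B] [Algebra K B] [CommRing B'] [Algebra K B'] (φ : B →ₐ[K] B') (b : B) :
    fnMap (specMap K φ) ((fnSpec (R := K) B).symm b) = (fnSpec (R := K) B').symm (φ b) := by
  have h : (fnMap (specMap K φ)).comp (fnSpec (R := K) B).symm.toAlgHom =
      (fnSpec (R := K) B').symm.toAlgHom.comp φ := by
    apply (affPt_bijective _).1
    rw [← comp_affPt, affPt_symm, ← affPt_specMap, affPt_symm, Category.comp_id, Category.id_comp]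
  exact DFunLike.congr_fun h b

/-- A one-parameter family of points of `G` which is universal. -/
structure ParU (K : Type u) [Field K] (G : Over (Spec (CommRingCat.of K))) [GrpObj G] extends Par K G where
  /-- the coordinate -/
  coord : K844.FinSub.Coord G
  /-- the equation of the locus of admissible parameters -/
  f : K[X]
  f_ne : f ≠ 0
  ok_iff : ∀ {R : Type u} [CommRing R] [Algebra K R] (r : R), ok R r ↔ IsUnit (aeval r f)
  v_ok : ∀ {T : Over (Spec (CommRingCat.of K))} (t : T ⟶ G), IsUnit (aeval (coord.v t) f)
  v_pt : ∀ {R : Type u} [CommRing R] [Algebra K R] (r : R) (h : ok R r),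
    coord.v (pt r h) = (fnSpec (R := K) R).symm r

section iso

variable {G : Over (Spec (CommRingCat.of K))} [GrpObj G] (D : ParU K G)
variable (E : Type u) [Field E] [Algebra K E]

/-- the equation over `E` -/
noncomputable abbrev fE : E[X] := D.f.map (algebraMap K E)

/-- functions on `G × Spec E` -/
abbrev BE : Type u := Localization.Away (fE D E)

theorem sub_map {M : Type u} [CommRing M] [Algebra K M] (φ : E →ₐ[K] M) (r : M) (P : K[X]) :
    sub φ r (P.map (algebraMap K E)) = aeval r P := by
  rw [BirRat.sub_apply, Polynomial.eval₂_map, Polynomial.aeval_def]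
  congr 1
  exact φ.comp_algebraMap

/-- the coordinate on `G × Spec E` -/
noncomputable def xB : BE D E := algebraMap E[X] (BE D E) X

/-- the constants -/
noncomputable def cB : E →ₐ[K] BE D E := IsScalarTower.toAlgHom K E (BE D E)

theorem ok_xB : D.ok (BE D E) (xB D E) := by
  rw [D.ok_iff, ← sub_map E (cB D E) (xB D E)]
  have h : sub (cB D E) (xB D E) = IsScalarTower.toAlgHom K E[X] (BE D E) := by
    apply AlgHom.coe_ringHom_injective
    apply Polynomial.ringHom_ext
    · intro x
      change sub (cB D E) (xB D E) (C x) = algebraMap E[X] (BE D E) (C x)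
      rw [sub_C]
      exact IsScalarTower.algebraMap_apply E E[X] (BE D E) x
    · change sub (cB D E) (xB D E) X = _
      rw [sub_X]
      rfl
  rw [h]
  exact IsLocalization.Away.algebraMap_isUnit (fE D E)

/-- the comparison -/
noncomputable def kap : SpecOver K (BE D E) ⟶ G ⊗ SpecOver K E :=
  lift (D.pt (xB D E) (ok_xB D E)) (specMap K (cB D E))

/-- functions from `E` -/
noncomputable def psi : E →ₐ[K] Fn (G ⊗ SpecOver K E) :=
  (fnMap (snd G (SpecOver K E))).comp (fnSpec (R := K) E).symm.toAlgHom

/-- the inverse on functions -/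
noncomputable def bet : BE D E →ₐ[K] Fn (G ⊗ SpecOver K E) :=
  IsLocalization.liftAlgHom (M := Submonoid.powers (fE D E))
    (f := sub (psi (G := G) E) (D.coord.v (fst G (SpecOver K E)))) (by
      rintro ⟨_, n, rfl⟩
      change IsUnit (sub _ _ ((fE D E) ^ n))
      rw [map_pow, sub_map]
      exact (D.v_ok _).pow n)

theorem bet_algebraMap (P : E[X]) : bet D E (algebraMap E[X] (BE D E) P) =
    sub (psi (G := G) E) (D.coord.v (fst G (SpecOver K E))) P := by
  rw [bet, IsLocalization.liftAlgHom_apply, IsLocalization.lift_eq]
  rfl

theorem kap_inv : kap D E ≫ affPt _ (bet D E) = 𝟙 _ := by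
  rw [comp_affPt, ← affPt_symm (K := K) (BE D E)]
  congr 1
  apply IsLocalization.algHom_ext (Submonoid.powers (fE D E))
  apply AlgHom.coe_ringHom_injective
  apply Polynomial.ringHom_ext
  · intro x
    change fnMap (kap D E) (bet D E (algebraMap E[X] (BE D E) (C x))) =
      (fnSpec (R := K) (BE D E)).symm (algebraMap E[X] (BE D E) (C x))
    rw [bet_algebraMap, sub_C]
    change fnMap (kap D E) (fnMap (snd G (SpecOver K E)) ((fnSpec (R := K) E).symm x)) = _
    have h1 : fnMap (kap D E) (fnMap (snd G (SpecOver K E)) ((fnSpec (R := K) E).symm x)) =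
      fnMap (kap D E ≫ snd G (SpecOver K E)) ((fnSpec (R := K) E).symm x) := rfl
    have h2 : kap D E ≫ snd G (SpecOver K E) = specMap K (cB D E) := lift_snd _ _
    rw [h1, h2, fnMap_specMap]
    congr 1
  · change fnMap (kap D E) (bet D E (algebraMap E[X] (BE D E) X)) =
      (fnSpec (R := K) (BE D E)).symm (algebraMap E[X] (BE D E) X)
    have h2 : kap D E ≫ fst G (SpecOver K E) = D.pt (xB D E) (ok_xB D E) := lift_fst _ _
    rw [bet_algebraMap, sub_X, ← D.coord.nat, h2, D.v_pt]
    rfl

theorem inv_kap : affPt _ (bet D E) ≫ kap D E = 𝟙 _ := by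
  apply CartesianMonoidalCategory.hom_ext
  · rw [Category.assoc, Category.id_comp, kap, lift_fst]
    apply D.coord.inj
    rw [D.coord.nat, D.v_pt]
    have h := DFunLike.congr_fun (fnMap_affPt (K := K) (G ⊗ SpecOver K E) (bet D E)) (xB D E)
    refine Eq.trans h ?_
    rw [xB, bet_algebraMap, sub_X]
  · rw [Category.assoc, Category.id_comp, kap, lift_snd, affPt_specMap]
    have h1 : (bet D E).comp (cB D E) = psi E := by
      apply AlgHom.ext
      intro x
      change bet D E (algebraMap E (BE D E) x) = _
      rw [IsScalarTower.algebraMap_apply E E[X] (BE D E), bet_algebraMap]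
      exact sub_C _ _ x
    rw [h1, psi, ← comp_affPt, affPt_symm, Category.comp_id]

instance : IsIso (kap D E) := ⟨_, kap_inv D E, inv_kap D E⟩

end iso


theorem schemeDom_specMap {A B : Type u} [CommRing A] [IsDomain A] [CommRing B] (f : A →+* B)
    (hf : Function.Injective f) : IsSchemeTheoreticallyDominant (Spec.map (CommRingCat.ofHom f)) := by
  have h1 : IsDominant (Spec.map (CommRingCat.ofHom f)) := by
    refine ⟨?_⟩
    change DenseRange (PrimeSpectrum.comap f)
    rw [PrimeSpectrum.denseRange_comap_iff_ker_le_nilRadical, (RingHom.injective_iff_ker_eq_bot f).1 hf]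
    exact bot_le
  exact IsSchemeTheoreticallyDominant.of_isDominant _

section dom

variable (X : Over (Spec (CommRingCat.of K))) [IsIntegral X.left] [IsSeparated X.hom]

attribute [local instance] algE

instance isDominant_gen : IsDominant (gen X).left := by
  have h : IsDominant (X.left.fromSpecStalk (genericPoint X.left)) := by
    refine ⟨?_⟩
    rw [DenseRange, dense_iff_closure_eq, Set.eq_univ_iff_forall]
    intro x
    have h1 : genericPoint X.left ∈ closure (Set.range (X.left.fromSpecStalk (genericPoint X.left))) :=
      subset_closure ⟨_, X.left.fromSpecStalk_closedPoint⟩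
    have h2 : genericPoint X.left ⤳ x := genericPoint_specializes x
    exact h2.mem_closed isClosed_closure h1
  exact h

instance schemeDom_gen : IsSchemeTheoreticallyDominant (gen X).left :=
  IsSchemeTheoreticallyDominant.of_isDominant _

instance qc_gen : QuasiCompact (gen X).left := by
  have h1 : QuasiCompact ((gen X).left ≫ X.hom) := by
    rw [Over.w]
    exact inferInstanceAs (QuasiCompact (Spec.map _))
  exact QuasiCompact.of_comp (gen X).left X.hom

variable (P : Over (Spec (CommRingCat.of K)))

instance flat_snd : Flat (snd P X).left := by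
  have h1 : Flat P.hom := inferInstance
  change Flat (pullback.snd P.hom X.hom)
  infer_instance

instance schemeDom_whisker : IsSchemeTheoreticallyDominant (P ◁ gen X).left :=
  IsSchemeTheoreticallyDominant.of_isPullback (Groth.Agent.Sga3B.AdCop.isPullback_whisker P (gen X)).flip

instance qc_whisker : QuasiCompact (P ◁ gen X).left :=
  MorphismProperty.of_isPullback (P := @QuasiCompact) (Groth.Agent.Sga3B.AdCop.isPullback_whisker P (gen X)).flip
    (qc_gen X)

end dom


section final

attribute [local instance] algE

variable {G : Over (Spec (CommRingCat.of K))} [GrpObj G] (D : ParU K G)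
variable (X : Over (Spec (CommRingCat.of K))) [IsIntegral X.left] [IsSeparated X.hom]

theorem le_nonZeroDivisors (E : Type u) [Field E] [Algebra K E] : Submonoid.powers (fE D E) ≤ nonZeroDivisors E[X] := by
  apply powers_le_nonZeroDivisors_of_noZeroDivisors
  intro h0
  exact D.f_ne ((Polynomial.map_eq_zero _).1 h0)

/-- functions on `G × Spec E` as rational functions -/
noncomputable def ratB (E : Type u) [Field E] [Algebra K E] : BE D E →ₐ[K] RatFunc E :=
  IsLocalization.liftAlgHom (M := Submonoid.powers (fE D E)) (f := IsScalarTower.toAlgHom K E[X] (RatFunc E))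
    (by
      rintro ⟨_, n, rfl⟩
      apply IsUnit.mk0
      intro h0
      have h1 : (fE D E) ^ n = 0 := RatFunc.algebraMap_injective E (h0.trans (map_zero _).symm)
      exact nonZeroDivisors.ne_zero (le_nonZeroDivisors D E ⟨n, rfl⟩) h1)

theorem ratB_algebraMap (E : Type u) [Field E] [Algebra K E] (P : E[X]) :
    ratB D E (algebraMap E[X] (BE D E) P) = algebraMap E[X] (RatFunc E) P := by
  rw [ratB, IsLocalization.liftAlgHom_apply, IsLocalization.lift_eq]
  rfl

theorem ratB_injective (E : Type u) [Field E] [Algebra K E] : Function.Injective (ratB D E) := by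
  have h := (IsLocalization.lift_injective_iff (M := Submonoid.powers (fE D E)) (S := BE D E)
    (g := (IsScalarTower.toAlgHom K E[X] (RatFunc E) : E[X] →+* RatFunc E)) (by
      rintro ⟨_, n, rfl⟩
      apply IsUnit.mk0
      intro h0
      have h1 : (fE D E) ^ n = 0 := RatFunc.algebraMap_injective E (h0.trans (map_zero _).symm)
      exact nonZeroDivisors.ne_zero (le_nonZeroDivisors D E ⟨n, rfl⟩) h1)).2 (by
      intro x y
      constructor
      · intro hxy
        have h1 := IsLocalization.injective (BE D E) (le_nonZeroDivisors D E) hxy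
        rw [h1]
      · intro hxy
        have h1 : x = y := RatFunc.algebraMap_injective E hxy
        rw [h1])
  exact h

/-- the point `(t, η)` -/
noncomputable def zpt : SpecOver K (RatFunc X.left.functionField) ⟶ G ⊗ X :=
  lift (D.pt RatFunc.X (ok_ratX D.toPar)) (specMap K (incA K X.left.functionField) ≫ gen X)

theorem zpt_eq : zpt D X = specMap K (ratB D X.left.functionField) ≫ kap D X.left.functionField ≫ (G ◁ gen X) := by
  set E := X.left.functionField with hE
  apply CartesianMonoidalCategory.hom_ext
  · rw [zpt, lift_fst, Category.assoc, Category.assoc, whiskerLeft_fst, kap, lift_fst, D.nat]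
    apply D.pt_congr
    change _ = ratB D E (algebraMap E[X] (BE D E) Polynomial.X)
    rw [ratB_algebraMap, RatFunc.algebraMap_X]
  · rw [zpt, lift_snd, Category.assoc, Category.assoc, whiskerLeft_snd, kap, lift_snd_assoc,
      ← Category.assoc, ← specMap_comp]
    congr 2
    apply AlgHom.ext
    intro x
    change _ = ratB D E (algebraMap E (BE D E) x)
    rw [IsScalarTower.algebraMap_apply E E[X] (BE D E), ratB_algebraMap]
    exact (RatFunc.algebraMap_C x).symm

instance schemeDom_zpt : IsSchemeTheoreticallyDominant (zpt D X).left := by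
  rw [zpt_eq, Over.comp_left, Over.comp_left]
  have hdom : IsDomain (BE D X.left.functionField) :=
    IsLocalization.isDomain_of_le_nonZeroDivisors _ (le_nonZeroDivisors D X.left.functionField)
  have h1 : IsSchemeTheoreticallyDominant (specMap K (ratB D X.left.functionField)).left :=
    schemeDom_specMap (ratB D X.left.functionField).toRingHom (ratB_injective D _)
  have h2 : IsIso (kap D X.left.functionField).left :=
    inferInstanceAs (IsIso ((Over.forget _).map (kap D X.left.functionField)))
  infer_instance

instance qc_zpt : QuasiCompact (zpt D X).left := by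
  rw [zpt_eq, Over.comp_left, Over.comp_left]
  have h1 : QuasiCompact (specMap K (ratB D X.left.functionField)).left :=
    inferInstanceAs (QuasiCompact (Spec.map _))
  have h2 : IsIso (kap D X.left.functionField).left :=
    inferInstanceAs (IsIso ((Over.forget _).map (kap D X.left.functionField)))
  infer_instance

/-- Two morphisms to a separated scheme agreeing at the generic point of `G × X` are equal. -/
theorem ext_of_zpt {Y : Over (Spec (CommRingCat.of K))} [IsSeparated Y.hom] (f g : G ⊗ X ⟶ Y)
    (h : zpt D X ≫ f = zpt D X ≫ g) : f = g := by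
  have h0 : IsReduced (SpecOver K (RatFunc X.left.functionField)).left :=
    inferInstanceAs (IsReduced (Spec (CommRingCat.of (RatFunc X.left.functionField))))
  have h1 : IsReduced (G ⊗ X).left := IsSchemeTheoreticallyDominant.isReduced (zpt D X).left
  apply Over.OverMorphism.ext
  exact ext_of_isDominant_of_isSeparated Y.hom ((Over.w f).trans (Over.w g).symm) (zpt D X).left
    (congrArg (fun f => f.left) h)

end final

end K844.BirNt
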