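import Groth.Agent.BddFin.K844.TorIso
import Mathlib.RingTheory.AdjoinRoot
import Mathlib.RingTheory.MvPolynomial.Homogeneous
import Mathlib.RingTheory.Localization.Away.Basic
import Mathlib.RingTheory.GradedAlgebra.HomogeneousLocalization
import Mathlib.Algebra.Polynomial.FieldDivision
import Mathlib.Algebra.Polynomial.SpecificDegree
import Mathlib.Algebra.MvPolynomial.CommRing

/-!
# The affine ring of the complement of a separable closed point of degree two of the line
-/

set_option autoImplicit false
universe u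
attribute [local instance] MvPolynomial.gradedAlgebra

open MvPolynomial HomogeneousLocalization
open scoped TensorProduct LaurentPolynomial

namespace K844.Quad

variable {K : Type u} [Field K] (q : MvPolynomial (Fin 2) K) (hq : q.IsHomogeneous 2)

/-- The graded pieces. -/
noncomputable abbrev 𝒜 (K : Type u) [Field K] : ℕ → Submodule K (MvPolynomial (Fin 2) K) :=
  MvPolynomial.homogeneousSubmodule (Fin 2) K

/-- the ring -/
noncomputable abbrev R (q : MvPolynomial (Fin 2) K) := HomogeneousLocalization.Away (𝒜 K) q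

/-- the algebra structure -/
noncomputable abbrev algR : Algebra K (R q) where
  algebraMap := (algebraMap (𝒜 K 0) (R q)).comp (algebraMap K (𝒜 K 0))
  commutes' _ _ := mul_comm _ _
  smul_def' k z := by
    apply HomogeneousLocalization.val_injective
    rw [HomogeneousLocalization.val_smul, HomogeneousLocalization.val_mul, Algebra.smul_def]
    congr 1

attribute [local instance] algR

section form

/-- first coefficient -/
noncomputable abbrev ca : K := q.coeff (Finsupp.single 0 2)
/-- second coefficient -/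
noncomputable abbrev cb : K := q.coeff (Finsupp.single 0 1 + Finsupp.single 1 1)
/-- third coefficient -/
noncomputable abbrev cc : K := q.coeff (Finsupp.single 1 2)

include hq in
theorem q_eq : q = C (ca q) * X 0 ^ 2 + C (cb q) * (X 0 * X 1) + C (cc q) * X 1 ^ 2 := by
  have h1 : ∀ d : Fin 2 →₀ ℕ, q.coeff d ≠ 0 → d 0 + d 1 = 2 := by
    intro d hd
    have := hq hd
    rw [Finsupp.weight_apply, Finsupp.sum_fintype] at this
    · simpa using this
    · simp
  have hX : (C (ca q) * X 0 ^ 2 + C (cb q) * (X 0 * X 1) + C (cc q) * X 1 ^ 2 : MvPolynomial (Fin 2) K) =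
      monomial (Finsupp.single 0 2) (ca q) + monomial (Finsupp.single 0 1 + Finsupp.single 1 1) (cb q) +
      monomial (Finsupp.single 1 2) (cc q) := by
    rw [monomial_eq, monomial_eq, monomial_eq]
    rw [Finsupp.prod_single_index (by simp), Finsupp.prod_single_index (by simp),
      Finsupp.prod_add_index' (by simp) (by intros; rw [pow_add]),
      Finsupp.prod_single_index (by simp), Finsupp.prod_single_index (by simp), pow_one, pow_one]
  rw [hX]
  ext d
  simp only [coeff_add, coeff_monomial]
  by_cases hd : q.coeff d = 0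
  · have h2 : ∀ e : Fin 2 →₀ ℕ, (if e = d then q.coeff e else 0) = 0 := by
      intro e
      split_ifs with h
      · rw [h, hd]
      · rfl
    rw [hd, h2, h2, h2]; simp
  · have h3 := h1 d hd
    have h4 : d 0 = 0 ∨ d 0 = 1 ∨ d 0 = 2 := by omega
    have e0 : (Finsupp.single (0 : Fin 2) 2 : Fin 2 →₀ ℕ) ≠ Finsupp.single 0 1 + Finsupp.single 1 1 := by
      intro h
      have := DFunLike.congr_fun h 0
      simp at this
    have e1 : (Finsupp.single (0 : Fin 2) 2 : Fin 2 →₀ ℕ) ≠ Finsupp.single 1 2 := by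
      intro h
      have := DFunLike.congr_fun h 0
      simp at this
    have e2 : (Finsupp.single (1 : Fin 2) 2 : Fin 2 →₀ ℕ) ≠ Finsupp.single 0 1 + Finsupp.single 1 1 := by
      intro h
      have := DFunLike.congr_fun h 0
      simp at this
    rcases h4 with h4 | h4 | h4
    · have : d = Finsupp.single 1 2 := by
        ext i; fin_cases i
        · simpa using h4
        · simp; omega
      subst this
      rw [if_neg e1, if_neg e2.symm, if_pos rfl]; simp
    · have : d = Finsupp.single 0 1 + Finsupp.single 1 1 := by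
        ext i; fin_cases i
        · simpa using h4
        · simp; omega
      subst this
      rw [if_neg e0, if_pos rfl, if_neg e2]; simp
    · have : d = Finsupp.single 0 2 := by
        ext i; fin_cases i
        · simpa using h4
        · simp; omega
      subst this
      rw [if_pos rfl, if_neg e0.symm, if_neg e1.symm]; simp

/-- a linear form is not a unit -/
theorem not_isUnit_of_coeff_zero (f : MvPolynomial (Fin 2) K) (hf : constantCoeff f = 0) :
    ¬ IsUnit f := by
  intro h
  have := h.map (constantCoeff (σ := Fin 2) (R := K))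
  rw [hf] at this
  exact not_isUnit_zero this

include hq in
theorem ca_ne_zero (hirr : Irreducible q) : ca q ≠ 0 := by
  intro h
  have h1 := q_eq q hq
  rw [h] at h1
  have h2 : q = X 1 * (C (cb q) * X 0 + C (cc q) * X 1) := by
    conv_lhs => rw [h1]
    rw [C_0]; ring
  rcases hirr.isUnit_or_isUnit h2 with h3 | h3
  · exact not_isUnit_of_coeff_zero _ (by simp) h3
  · exact not_isUnit_of_coeff_zero _ (by simp) h3

/-- the dehomogenized monic polynomial -/
noncomputable def pol : Polynomial K :=
  Polynomial.X ^ 2 + Polynomial.C (cb q / ca q) * Polynomial.X + Polynomial.C (cc q / ca q)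

theorem pol_natDegree : (pol q).natDegree = 2 := by
  unfold pol
  compute_degree!

theorem pol_monic : (pol q).Monic := by
  unfold pol
  monicity!

include hq in
theorem pol_irreducible (hirr : Irreducible q) : Irreducible (pol q) := by
  have ha := ca_ne_zero q hq hirr
  rw [Polynomial.irreducible_iff_roots_eq_zero_of_degree_le_three (by rw [pol_natDegree])
    (by rw [pol_natDegree]; norm_num)]
  rw [Multiset.eq_zero_iff_forall_notMem]
  intro r hr
  rw [Polynomial.mem_roots (pol_monic q).ne_zero, Polynomial.IsRoot.def] at hr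
  simp only [pol, Polynomial.eval_add, Polynomial.eval_pow, Polynomial.eval_X, Polynomial.eval_mul,
    Polynomial.eval_C] at hr
  have hr' : ca q * r ^ 2 + cb q * r + cc q = 0 := by
    have := congrArg (ca q * ·) hr
    simp only [mul_zero] at this
    rw [← this]
    field_simp
  have h1 := q_eq q hq
  have h2 : q = (X 0 - C r * X 1) * (C (ca q) * X 0 + (C (cb q) + C (ca q) * C r) * X 1) := by
    have h3 : (C (cc q) : MvPolynomial (Fin 2) K) = - (C (ca q) * C r ^ 2 + C (cb q) * C r) := by
      have h4 : cc q = - (ca q * r ^ 2 + cb q * r) := by linear_combination hr'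
      rw [h4]
      simp only [C_neg, C_add, C_mul, C_pow]
    conv_lhs => rw [h1]
    rw [h3]
    ring
  rcases hirr.isUnit_or_isUnit h2 with h3 | h3
  · exact not_isUnit_of_coeff_zero _ (by simp) h3
  · exact not_isUnit_of_coeff_zero _ (by simp) h3

end form

section elements

theorem mem_aux (i j : ℕ) (n : ℕ) (h : i + j = n • 2) :
    (X 0 ^ i * X 1 ^ j : MvPolynomial (Fin 2) K) ∈ 𝒜 K (n • 2) := by
  rw [← h]
  have h1 := (isHomogeneous_X_pow (R := K) (0 : Fin 2) i).mul (isHomogeneous_X_pow (R := K) (1 : Fin 2) j)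
  exact h1

variable (hq' : q ∈ 𝒜 K 2)

/-- monomial over a power of `q`. -/
noncomputable def mon (i j : ℕ) (n : ℕ) (h : i + j = n • 2) : R q :=
  Away.mk (𝒜 K) (d := 2) (f := q) hq' n (X 0 ^ i * X 1 ^ j) (mem_aux i j n h)

theorem val_mon (i j : ℕ) (n : ℕ) (h : i + j = n • 2) :
    (mon q hq' i j n h).val = Localization.mk (X 0 ^ i * X 1 ^ j) ⟨q ^ n, by use n⟩ := rfl

theorem mon_mul (i j n i' j' n' : ℕ) (h : i + j = n • 2) (h' : i' + j' = n' • 2) :
    mon q hq' i j n h * mon q hq' i' j' n' h' =
      mon q hq' (i + i') (j + j') (n + n') (by simp only [smul_eq_mul] at *; omega) := by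
  apply HomogeneousLocalization.val_injective
  rw [HomogeneousLocalization.val_mul, val_mon, val_mon, val_mon, Localization.mk_mul]
  congr 1
  · ring
  · apply Subtype.ext
    simp only [Submonoid.coe_mul, pow_add]

/-- generators -/
noncomputable def e₁ : R q := mon q hq' 2 0 1 rfl
/-- generators -/
noncomputable def e₂ : R q := mon q hq' 1 1 1 rfl
/-- generators -/
noncomputable def e₃ : R q := mon q hq' 0 2 1 rfl

theorem e_rel : e₁ q hq' * e₃ q hq' = e₂ q hq' * e₂ q hq' := by
  unfold e₁ e₂ e₃
  rw [mon_mul, mon_mul]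

theorem e_one : ca q • e₁ q hq' + cb q • e₂ q hq' + cc q • e₃ q hq' = 1 := by
  apply HomogeneousLocalization.val_injective
  simp only [HomogeneousLocalization.val_add, HomogeneousLocalization.val_smul,
    HomogeneousLocalization.val_one, e₁, e₂, e₃, val_mon, Localization.smul_mk]
  rw [Localization.add_mk_self, Localization.add_mk_self]
  have h1 : (ca q • (X 0 ^ 2 * X 1 ^ 0) + cb q • (X 0 ^ 1 * X 1 ^ 1) + cc q • (X 0 ^ 0 * X 1 ^ 2) :
      MvPolynomial (Fin 2) K) = q ^ 1 := by
    conv_rhs => rw [pow_one, q_eq q hq']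
    simp only [smul_eq_C_mul, pow_zero, mul_one, one_mul, pow_one]
  rw [h1]
  exact Localization.mk_self (⟨q ^ 1, _⟩ : Submonoid.powers q)

theorem adjoin_X_zero : Algebra.adjoin (𝒜 K 0) (Set.range (X : Fin 2 → MvPolynomial (Fin 2) K)) = ⊤ := by
  rw [eq_top_iff]
  rintro x -
  induction x using MvPolynomial.induction_on with
  | C a =>
    exact (Algebra.adjoin (𝒜 K 0) (Set.range (X : Fin 2 → MvPolynomial (Fin 2) K))).algebraMap_mem
      ⟨C a, isHomogeneous_C _ a⟩
  | add p q hp hq => exact add_mem hp hq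
  | mul_X p n hp => exact mul_mem hp (Algebra.subset_adjoin ⟨n, rfl⟩)

theorem adjoin_top : Algebra.adjoin K ({e₁ q hq', e₂ q hq', e₃ q hq'} : Set (R q)) = ⊤ := by
  have h1 := Away.adjoin_mk_prod_pow_eq_top (𝒜 := 𝒜 K) (f := q) (d := 2) hq' (Fin 2)
    (X : Fin 2 → MvPolynomial (Fin 2) K) adjoin_X_zero (fun _ => 1) (fun i => isHomogeneous_X K i)
  set S := Algebra.adjoin K ({e₁ q hq', e₂ q hq', e₃ q hq'} : Set (R q)) with hS
  have he1 : e₁ q hq' ∈ S := Algebra.subset_adjoin (by simp)
  have he2 : e₂ q hq' ∈ S := Algebra.subset_adjoin (by simp)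
  have he3 : e₃ q hq' ∈ S := Algebra.subset_adjoin (by simp)
  rw [eq_top_iff]
  rintro x -
  have hx : x ∈ Algebra.adjoin (𝒜 K 0) { Away.mk (𝒜 K) (d := 2) (f := q) hq' a
      (∏ i : Fin 2, (X i : MvPolynomial (Fin 2) K) ^ ai i)
      (hai ▸ SetLike.prod_pow_mem_graded _ _ _ _ fun i _ ↦ isHomogeneous_X K i) |
        (a : ℕ) (ai : Fin 2 → ℕ) (hai : ∑ i, ai i • 1 = a • 2) (_ : ∀ i, ai i ≤ 2) } := by
    rw [h1]; trivial
  induction hx using Algebra.adjoin_induction with
  | mem x hx =>
    obtain ⟨a, ai, hai, hle, rfl⟩ := hx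
    have h3 : ai 0 + ai 1 = a • 2 := by
      rw [← hai, Fin.sum_univ_two]; simp
    have h4 : (Away.mk (𝒜 K) (d := 2) (f := q) hq' a
      (∏ i : Fin 2, (X i : MvPolynomial (Fin 2) K) ^ ai i)
      (hai ▸ SetLike.prod_pow_mem_graded _ _ _ _ fun i _ ↦ isHomogeneous_X K i)) =
        mon q hq' (ai 0) (ai 1) a h3 := by
      apply HomogeneousLocalization.val_injective
      rw [val_mon, Away.val_mk, Fin.prod_univ_two]
    rw [h4]
    have h50 := hle 0
    have h51 := hle 1
    generalize ai 0 = i at *
    generalize ai 1 = j at *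
    clear hle hai h4
    rw [smul_eq_mul] at h3
    interval_cases i <;> interval_cases j
    · obtain rfl : a = 0 := by omega
      have : mon q hq' 0 0 0 rfl = 1 := by
        apply HomogeneousLocalization.val_injective
        rw [val_mon, HomogeneousLocalization.val_one]
        simp only [pow_zero, mul_one]
        exact Localization.mk_one
      rw [this]
      exact one_mem _
    · omega
    · obtain rfl : a = 1 := by omega
      exact he3
    · omega
    · obtain rfl : a = 1 := by omega
      exact he2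
    · omega
    · obtain rfl : a = 1 := by omega
      exact he1
    · omega
    · obtain rfl : a = 2 := by omega
      have : mon q hq' 2 2 2 rfl = e₁ q hq' * e₃ q hq' := by
        unfold e₁ e₃
        rw [mon_mul]
      rw [this]
      exact mul_mem he1 he3
  | algebraMap r => 
    obtain ⟨r, hr⟩ := r
    have h5 : r = C (r.coeff 0) := by
      have h6 : r.IsHomogeneous 0 := hr
      exact (totalDegree_eq_zero_iff_eq_C).1 ((totalDegree_zero_iff_isHomogeneous _).2 h6)
    have h7 : (⟨r, hr⟩ : 𝒜 K 0) = algebraMap K (𝒜 K 0) (r.coeff 0) := by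
      apply Subtype.ext
      exact h5
    rw [h7]
    exact S.algebraMap_mem (r.coeff 0)
  | add x y _ _ hx hy => exact add_mem hx hy
  | mul x y _ _ hx hy => exact mul_mem hx hy

end elements

section rho

variable {L : Type u} [Field L] [Algebra K L] (α β : L)

/-- the evaluation -/
noncomputable def ev : MvPolynomial (Fin 2) K →ₐ[K] L[T;T⁻¹] :=
  aeval ![LaurentPolynomial.C ((β - α)⁻¹) * (LaurentPolynomial.C β * LaurentPolynomial.T 1 -
      LaurentPolynomial.C α),
    LaurentPolynomial.C ((β - α)⁻¹) * (LaurentPolynomial.T 1 - 1)]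

variable (hαβ : α ≠ β) (hq' : q ∈ 𝒜 K 2)
  (hb : algebraMap K L (ca q) * (α + β) = - algebraMap K L (cb q))
  (hc : algebraMap K L (ca q) * (α * β) = algebraMap K L (cc q))

include hαβ in
theorem ev_sub_left : ev (K := K) α β (X 0) - LaurentPolynomial.C α * ev (K := K) α β (X 1) =
    LaurentPolynomial.T 1 := by
  have hd : β - α ≠ 0 := sub_ne_zero.2 hαβ.symm
  have h1 : (LaurentPolynomial.C ((β - α)⁻¹) : L[T;T⁻¹]) * (LaurentPolynomial.C β - LaurentPolynomial.C α) = 1 := by
    rw [← map_sub, ← map_mul, inv_mul_cancel₀ hd, map_one]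
  simp only [ev, aeval_X, Matrix.cons_val_zero, Matrix.cons_val_one]
  linear_combination (LaurentPolynomial.T 1 : L[T;T⁻¹]) * h1

include hαβ in
theorem ev_sub_right : ev (K := K) α β (X 0) - LaurentPolynomial.C β * ev (K := K) α β (X 1) = 1 := by
  have hd : β - α ≠ 0 := sub_ne_zero.2 hαβ.symm
  have h1 : (LaurentPolynomial.C ((β - α)⁻¹) : L[T;T⁻¹]) * (LaurentPolynomial.C β - LaurentPolynomial.C α) = 1 := by
    rw [← map_sub, ← map_mul, inv_mul_cancel₀ hd, map_one]
  simp only [ev, aeval_X, Matrix.cons_val_zero, Matrix.cons_val_one]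
  linear_combination h1

include hαβ hq' hb hc in
theorem ev_q : ev (K := K) α β q = LaurentPolynomial.C (algebraMap K L (ca q)) * LaurentPolynomial.T 1 := by
  have h1 := ev_sub_left (K := K) α β hαβ
  have h2 := ev_sub_right (K := K) α β hαβ
  conv_lhs => rw [q_eq q hq']
  have hC : ∀ k : K, ev (K := K) α β (C k) = LaurentPolynomial.C (algebraMap K L k) := by
    intro k
    rw [← MvPolynomial.algebraMap_eq, AlgHom.commutes]
    rfl
  simp only [map_add, map_mul, map_pow, hC]
  have hb' : (LaurentPolynomial.C (algebraMap K L (cb q)) : L[T;T⁻¹]) =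
    - (LaurentPolynomial.C (algebraMap K L (ca q)) * (LaurentPolynomial.C α + LaurentPolynomial.C β)) := by
    rw [← map_add, ← map_mul, hb, map_neg, neg_neg]
  have hc' : (LaurentPolynomial.C (algebraMap K L (cc q)) : L[T;T⁻¹]) =
    (LaurentPolynomial.C (algebraMap K L (ca q)) * (LaurentPolynomial.C α * LaurentPolynomial.C β)) := by
    rw [← map_mul, ← map_mul, hc]
  rw [hb', hc']
  linear_combination (LaurentPolynomial.C (algebraMap K L (ca q))) * h1 * (ev (K := K) α β (X 0) - LaurentPolynomial.C β * ev (K := K) α β (X 1)) +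
    (LaurentPolynomial.C (algebraMap K L (ca q))) * LaurentPolynomial.T 1 * h2

variable (hca : ca q ≠ 0)

include hαβ hq' hb hc hca in
theorem isUnit_ev_q : IsUnit (ev (K := K) α β q) := by
  rw [ev_q q α β hαβ hq' hb hc]
  have h1 : IsUnit (algebraMap K L (ca q)) := IsUnit.mk0 _ (by simpa using hca)
  exact (h1.map (LaurentPolynomial.C (R := L))).mul (LaurentPolynomial.isUnit_T 1)

/-- the map on the localization -/
noncomputable def evLoc : Localization.Away q →+* L[T;T⁻¹] :=
  IsLocalization.Away.lift q (g := (ev (K := K) α β).toRingHom)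
    (isUnit_ev_q q α β hαβ hq' hb hc hca)

/-- the map -/
noncomputable def rho : R q →ₐ[K] L[T;T⁻¹] where
  toRingHom := (evLoc q α β hαβ hq' hb hc hca).comp (algebraMap (R q) (Localization.Away q))
  commutes' k := by
    change evLoc q α β hαβ hq' hb hc hca (algebraMap (MvPolynomial (Fin 2) K) _ (C k)) = _
    rw [evLoc, IsLocalization.Away.lift_eq]
    change ev α β (C k) = _
    rw [← MvPolynomial.algebraMap_eq, AlgHom.commutes]

theorem rho_mon (i j n : ℕ) (h : i + j = n • 2) :
    rho q α β hαβ hq' hb hc hca (mon q hq' i j n h) * (ev (K := K) α β q) ^ n =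
      (ev (K := K) α β (X 0)) ^ i * (ev (K := K) α β (X 1)) ^ j := by
  change evLoc q α β hαβ hq' hb hc hca (mon q hq' i j n h).val * _ = _
  rw [val_mon]
  have h1 : (ev (K := K) α β q) ^ n = evLoc q α β hαβ hq' hb hc hca
      (algebraMap (MvPolynomial (Fin 2) K) (Localization.Away q) (q ^ n)) := by
    rw [evLoc, IsLocalization.Away.lift_eq]
    exact (map_pow (ev α β) q n).symm
  rw [h1, ← map_mul, ← Localization.mk_one_eq_algebraMap, Localization.mk_mul]
  have h2 : (Localization.mk ((X 0 ^ i * X 1 ^ j) * q ^ n) ((⟨q ^ n, by use n⟩ : Submonoid.powers q) * 1) :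
      Localization.Away q) = algebraMap (MvPolynomial (Fin 2) K) (Localization.Away q) (X 0 ^ i * X 1 ^ j) := by
    rw [← Localization.mk_one_eq_algebraMap, Localization.mk_eq_mk_iff, Localization.r_iff_exists]
    refine ⟨1, ?_⟩
    simp only [OneMemClass.coe_one, one_mul, mul_one]
    ring
  rw [h2, evLoc, IsLocalization.Away.lift_eq]
  change ev α β (X 0 ^ i * X 1 ^ j) = _
  rw [map_mul, map_pow, map_pow]

theorem psi_tt : K844.TorIso.psi K L (R q) (rho q α β hαβ hq' hb hc hca)
    (K844.TorIso.tt K L (R q) (ca q) α (e₁ q hq') (e₂ q hq') (e₃ q hq')) = LaurentPolynomial.T 1 := by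
  have hu := isUnit_ev_q q α β hαβ hq' hb hc hca
  apply hu.mul_right_cancel
  have r1 := rho_mon q α β hαβ hq' hb hc hca 2 0 1 rfl
  have r2 := rho_mon q α β hαβ hq' hb hc hca 1 1 1 rfl
  have r3 := rho_mon q α β hαβ hq' hb hc hca 0 2 1 rfl
  change rho q α β hαβ hq' hb hc hca (e₁ q hq') * _ = _ at r1
  change rho q α β hαβ hq' hb hc hca (e₂ q hq') * _ = _ at r2
  change rho q α β hαβ hq' hb hc hca (e₃ q hq') * _ = _ at r3
  rw [pow_one, pow_zero, mul_one] at r1
  rw [pow_one, pow_one, pow_one] at r2
  rw [pow_one, pow_zero, one_mul] at r3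
  have h1 := ev_sub_left (K := K) α β hαβ
  have hev := ev_q q α β hαβ hq' hb hc
  simp only [K844.TorIso.tt, map_add, map_sub, K844.TorIso.psi_tmul]
  simp only [map_mul, map_pow, map_ofNat] 
  rw [hev] at r1 r2 r3 ⊢
  linear_combination (LaurentPolynomial.C (algebraMap K L (ca q))) * r1 -
    (LaurentPolynomial.C (algebraMap K L (ca q))) * (2 * LaurentPolynomial.C α) * r2 +
    (LaurentPolynomial.C (algebraMap K L (ca q))) * (LaurentPolynomial.C α) ^ 2 * r3 +
    (LaurentPolynomial.C (algebraMap K L (ca q))) * h1 * (ev (K := K) α β (X 0) - LaurentPolynomial.C α * ev (K := K) α β (X 1) +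
    LaurentPolynomial.T 1)

end rho

/-- The main theorem in algebra form. -/
theorem main (hK : ∀ n : ℕ, 0 < n → (Polynomial.X ^ n - 1 : Polynomial K).Splits)
    (hirr : Irreducible q) (hq' : q ∈ 𝒜 K 2) (hdisc : (cb q) ^ 2 - 4 * ca q * cc q ≠ 0)
    (G : Subgroup (R q ≃ₐ[K] R q)) [Finite G] : (∀ g ∈ G, g ^ 2 = 1) ∧ Nat.card G ≤ 4 := by
  have hca := ca_ne_zero q hq' hirr
  have : Fact (Irreducible (pol q)) := ⟨pol_irreducible q hq' hirr⟩
  set α : AdjoinRoot (pol q) := AdjoinRoot.root (pol q) with hα
  set β : AdjoinRoot (pol q) := - algebraMap K _ (cb q / ca q) - α with hβ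
  have hroot : α ^ 2 + algebraMap K _ (cb q / ca q) * α + algebraMap K _ (cc q / ca q) = 0 := by
    have h1 := AdjoinRoot.eval₂_root (pol q)
    change Polynomial.eval₂ (AdjoinRoot.of (pol q)) α (Polynomial.X ^ 2 +
      Polynomial.C (cb q / ca q) * Polynomial.X + Polynomial.C (cc q / ca q)) = 0 at h1
    simp only [Polynomial.eval₂_add, Polynomial.eval₂_pow, Polynomial.eval₂_X, Polynomial.eval₂_mul,
      Polynomial.eval₂_C] at h1
    exact h1
  have hca' : algebraMap K (AdjoinRoot (pol q)) (ca q) ≠ 0 := by simpa using hca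
  have hb : algebraMap K (AdjoinRoot (pol q)) (ca q) * (α + β) = - algebraMap K _ (cb q) := by
    rw [hβ, map_div₀]
    field_simp
    ring
  have hc : algebraMap K (AdjoinRoot (pol q)) (ca q) * (α * β) = algebraMap K _ (cc q) := by
    rw [hβ]
    have h2 : algebraMap K (AdjoinRoot (pol q)) (cc q) = algebraMap K (AdjoinRoot (pol q)) (ca q) *
        algebraMap K _ (cc q / ca q) := by
      rw [← map_mul, mul_div_cancel₀ _ hca]
    rw [h2]
    linear_combination (- algebraMap K (AdjoinRoot (pol q)) (ca q)) * hroot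
  have hαβ : α ≠ β := by
    intro h
    apply hdisc
    apply FaithfulSMul.algebraMap_injective K (AdjoinRoot (pol q))
    rw [← h] at hb hc
    simp only [map_sub, map_pow, map_mul, map_ofNat, map_zero]
    rw [← hc]
    have hb' : algebraMap K (AdjoinRoot (pol q)) (cb q) = - (algebraMap K _ (ca q) * (α + α)) := by
      rw [hb, neg_neg]
    rw [hb']
    ring
  have hβroot : Polynomial.aeval β (pol q) = 0 := by
    change Polynomial.aeval β (Polynomial.X ^ 2 +
      Polynomial.C (cb q / ca q) * Polynomial.X + Polynomial.C (cc q / ca q)) = 0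
    simp only [map_add, map_pow, map_mul, Polynomial.aeval_X, Polynomial.aeval_C]
    rw [hβ]
    linear_combination hroot
  let σ : AdjoinRoot (pol q) →ₐ[K] AdjoinRoot (pol q) := AdjoinRoot.liftAlgHom (pol q) (Algebra.ofId K _) β (by
    rw [← hβroot]; rfl)
  have hσ : σ α = β := by
    simp only [σ]
    rw [hα, AdjoinRoot.liftAlgHom_root]
  have h1 : (1 : AdjoinRoot (pol q)) ⊗ₜ[K] (1 : R q) = (algebraMap K _ (ca q)) ⊗ₜ e₁ q hq' -
    (algebraMap K _ (ca q) * (α + β)) ⊗ₜ e₂ q hq' + (algebraMap K _ (ca q) * (α * β)) ⊗ₜ e₃ q hq' := by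
    rw [hb, hc, ← e_one q hq']
    simp only [TensorProduct.tmul_add, TensorProduct.tmul_smul, TensorProduct.neg_tmul, 
      Algebra.algebraMap_eq_smul_one, TensorProduct.smul_tmul']
    ring
  obtain ⟨e, he⟩ := K844.TorIso.exists_iso K (AdjoinRoot (pol q)) (R q) σ (ca q) α β hca hαβ
    (e₁ q hq') (e₂ q hq') (e₃ q hq') h1 (e_rel q hq') (adjoin_top q hq')
    (rho q α β hαβ hq' hb hc hca) (psi_tt q α β hαβ hq' hb hc hca) hσ
  exact K844.TorAut.main K (AdjoinRoot (pol q)) (R q) σ e hK he G

end K844.Quad
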