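import Groth.Agent.CurvesA.CSABasic
import Mathlib.RingTheory.SimpleModule.IsAlgClosed
import Mathlib.FieldTheory.IsAlgClosed.AlgebraicClosure
import Mathlib.LinearAlgebra.Matrix.Charpoly.Minpoly
import Mathlib.LinearAlgebra.Matrix.Charpoly.Coeff
import Mathlib.LinearAlgebra.FreeModule.PID
import Mathlib.RingTheory.PowerBasis
import Mathlib.RingTheory.AdjoinRoot
import Mathlib.Algebra.CharP.Defs
import Mathlib.FieldTheory.Separable

/-!
# Reduced trace of a central division algebra of prime degree equal to the characteristic
-/

set_option autoImplicit false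
universe u v

open scoped TensorProduct
open Polynomial

namespace K844.RedTr

section

variable (K : Type u) [Field K] 
variable (A : Type v) [DivisionRing A] [Algebra K A] [FiniteDimensional K A]

/-- splitting over the algebraic closure -/
theorem exists_split [Algebra.IsCentral K A] (n : ℕ) (hA : Module.finrank K A = n ^ 2) :
    Nonempty (AlgebraicClosure K ⊗[K] A ≃ₐ[AlgebraicClosure K]
      Matrix (Fin n) (Fin n) (AlgebraicClosure K)) := by
  have := Groth.Agent.CurvesA.CSABasic.isSimpleRing_tensorProduct K (AlgebraicClosure K) A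
  obtain ⟨m, hm, ⟨e⟩⟩ := IsSimpleRing.exists_algEquiv_matrix_of_isAlgClosed (AlgebraicClosure K)
    (AlgebraicClosure K ⊗[K] A)
  have h1 := e.toLinearEquiv.finrank_eq
  rw [Module.finrank_baseChange, hA, Module.finrank_matrix] at h1
  simp only [Fintype.card_fin, Module.finrank_self, mul_one] at h1
  have h2 : n = m := by
    rw [← sq] at h1
    exact Nat.pow_left_injective two_ne_zero h1
  subst h2
  exact ⟨e⟩

/-- the degree of an element divides the dimension of the division algebra -/
theorem natDegree_minpoly_dvd (v : A) :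
    (minpoly K v).natDegree ∣ Module.finrank K A := by
  have hint : IsIntegral K v := Algebra.IsIntegral.isIntegral v
  have : Fact (Irreducible (minpoly K v)) := ⟨minpoly.irreducible hint⟩
  let g : AdjoinRoot (minpoly K v) →+* A :=
    Ideal.Quotient.lift _ (aeval v : K[X] →ₐ[K] A).toRingHom (by
      intro a ha
      rw [Ideal.mem_span_singleton] at ha
      obtain ⟨b, rfl⟩ := ha
      simp)
  letI : Module (AdjoinRoot (minpoly K v)) A := Module.compHom A g
  have hg : ∀ a : K, g (algebraMap K _ a) = algebraMap K A a := by
    intro a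
    change (aeval v : K[X] →ₐ[K] A) (C a) = _
    simp
  have : IsScalarTower K (AdjoinRoot (minpoly K v)) A := by
    refine ⟨fun a x y => ?_⟩
    change g (a • x) * y = a • (g x * y)
    rw [Algebra.smul_def, map_mul, hg, Algebra.smul_def, mul_assoc]
  have h1 := Module.finrank_mul_finrank K (AdjoinRoot (minpoly K v)) A
  have h2 : Module.finrank K (AdjoinRoot (minpoly K v)) = (minpoly K v).natDegree := by
    rw [(AdjoinRoot.powerBasis (minpoly.ne_zero hint)).finrank, AdjoinRoot.powerBasis_dim]
  rw [h2] at h1
  exact ⟨_, h1.symm⟩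

theorem natDegree_minpoly_le (n : ℕ) (f : A →ₐ[K] Matrix (Fin n) (Fin n) (AlgebraicClosure K))
    (hf : ∀ (ι : Type) (w : ι → A), LinearIndependent K w →
      LinearIndependent (AlgebraicClosure K) (fun i => f (w i))) (v : A) :
    (minpoly K v).natDegree ≤ n := by
  have h1 := linearIndependent_pow (K := K) v
  have h2 := hf _ _ h1
  by_contra hlt
  rw [not_le] at hlt
  rw [Fintype.linearIndependent_iff] at h2
  -- the characteristic polynomial
  have hch := Matrix.aeval_self_charpoly (f v)
  have hdeg : (f v).charpoly.natDegree = n := by simp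
  have h3 : ∑ i : Fin (minpoly K v).natDegree, ((f v).charpoly.coeff i) • f (v ^ (i : ℕ)) = 0 := by
    rw [Fin.sum_univ_eq_sum_range (fun i => ((f v).charpoly.coeff i) • f (v ^ i))]
    rw [Polynomial.aeval_eq_sum_range' (n := (minpoly K v).natDegree) (by rw [hdeg]; exact hlt)] at hch
    simpa using hch
  have h4 := h2 _ h3 ⟨n, hlt⟩
  have h5 : (f v).charpoly.coeff n = 1 := by
    have := (Matrix.charpoly_monic (f v)).coeff_natDegree
    rwa [hdeg] at this
  simp only [h5] at h4
  exact one_ne_zero h4

/-- `charpoly = minpoly` when the degree is maximal. -/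
theorem charpoly_eq (n : ℕ) (f : A →ₐ[K] Matrix (Fin n) (Fin n) (AlgebraicClosure K))
    (hf : ∀ (ι : Type) (w : ι → A), LinearIndependent K w →
      LinearIndependent (AlgebraicClosure K) (fun i => f (w i))) (v : A)
    (hv : (minpoly K v).natDegree = n) :
    (f v).charpoly = (minpoly K v).map (algebraMap K (AlgebraicClosure K)) := by
  have hint : IsIntegral K v := Algebra.IsIntegral.isIntegral v
  have h1 := linearIndependent_pow (K := K) v
  have h2 := hf _ _ h1
  rw [Fintype.linearIndependent_iff] at h2
  set m := (minpoly K v).map (algebraMap K (AlgebraicClosure K)) with hm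
  have hmm : m.Monic := (minpoly.monic hint).map _
  have hmd : m.natDegree = n := by rw [hm, natDegree_map, hv]
  have hch := Matrix.aeval_self_charpoly (f v)
  have hcm := Matrix.charpoly_monic (f v)
  have hdeg : (f v).charpoly.natDegree = n := by simp
  have hm0 : aeval (f v) m = 0 := by
    rw [hm, aeval_map_algebraMap, aeval_algHom_apply, minpoly.aeval, map_zero]
  by_contra hne
  set q := (f v).charpoly - m with hq
  have hq0 : aeval (f v) q = 0 := by rw [hq, map_sub, hch, hm0, sub_zero]
  have hqd : q.natDegree < n ∨ q = 0 := by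
    by_cases h : q = 0
    · right; exact h
    · left
      have h3 : q.degree < (f v).charpoly.degree := by
        apply degree_sub_lt_left _ hcm.ne_zero
        · rw [hcm.leadingCoeff, hmm.leadingCoeff]
        · rw [degree_eq_natDegree hcm.ne_zero, degree_eq_natDegree hmm.ne_zero, hdeg, hmd]
      rw [degree_eq_natDegree hcm.ne_zero, hdeg] at h3
      exact (natDegree_lt_iff_degree_lt h).2 h3
  rcases hqd with hqd | hqd
  · have h3 : ∑ i : Fin (minpoly K v).natDegree, (q.coeff i) • f (v ^ (i : ℕ)) = 0 := by
      rw [Fin.sum_univ_eq_sum_range (fun i => (q.coeff i) • f (v ^ i))]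
      rw [Polynomial.aeval_eq_sum_range' (n := (minpoly K v).natDegree) (by rw [hv]; exact hqd)] at hq0
      simpa using hq0
    have h4 := h2 _ h3
    apply hne
    rw [← sub_eq_zero, ← hq]
    ext i
    rw [coeff_zero]
    by_cases hi : i < n
    · exact h4 ⟨i, by rw [hv]; exact hi⟩
    · exact coeff_eq_zero_of_natDegree_lt (by omega)
  · exact hne (sub_eq_zero.1 hqd)

end

section

variable (K : Type u) [Field K] (p : ℕ) [Fact p.Prime] [CharP K p]
variable (A : Type v) [DivisionRing A] [Algebra K A] [FiniteDimensional K A]

theorem mem_range_of_natDegree_eq_one (v : A) (hv : (minpoly K v).natDegree = 1) :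
    v ∈ (algebraMap K A).range := by
  have hint : IsIntegral K v := Algebra.IsIntegral.isIntegral v
  rw [minpoly.natDegree_eq_one_iff] at hv
  exact hv

/-- Reduced trace of a central division algebra of prime degree `p = char K`. -/
theorem exists_redTrace [Algebra.IsCentral K A] (hA : Module.finrank K A = p ^ 2) :
    ∃ T : A →ₗ[K] K, (∀ x y : A, T (x * y) = T (y * x)) ∧ (∀ a : K, T (algebraMap K A a) = 0) ∧
      (∀ v : A, v ∉ (algebraMap K A).range → (minpoly K v).natDegree = p ∧
        T v = - (minpoly K v).coeff (p - 1)) := by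
  have hp : p.Prime := Fact.out
  obtain ⟨e⟩ := exists_split K A p hA
  let f : A →ₐ[K] Matrix (Fin p) (Fin p) (AlgebraicClosure K) :=
    (e.toAlgHom.restrictScalars K).comp
      (Algebra.TensorProduct.includeRight : A →ₐ[K] AlgebraicClosure K ⊗[K] A)
  have hf : ∀ (ι : Type) (w : ι → A), LinearIndependent K w →
      LinearIndependent (AlgebraicClosure K) (fun i => f (w i)) := by
    intro ι w hw
    have h1 := Module.Flat.linearIndependent_one_tmul (S := AlgebraicClosure K) hw
    exact h1.map' e.toLinearEquiv.toLinearMap (LinearEquiv.ker _)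
  have hdeg : ∀ v : A, v ∉ (algebraMap K A).range → (minpoly K v).natDegree = p := by
    intro v hv
    have h1 := natDegree_minpoly_dvd K A v
    rw [hA] at h1
    have h2 := natDegree_minpoly_le K A p f hf v
    have h3 : (minpoly K v).natDegree ≠ 1 := fun h => hv (mem_range_of_natDegree_eq_one K A v h)
    obtain ⟨i, hi, hi'⟩ := (Nat.dvd_prime_pow hp).1 h1
    rw [hi'] at h2 h3 ⊢
    interval_cases i
    · simp at h3
    · simp
    · exfalso
      have := hp.one_lt
      nlinarith
  have htr : ∀ v : A, v ∉ (algebraMap K A).range →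
      Matrix.trace (f v) = algebraMap K (AlgebraicClosure K) (- (minpoly K v).coeff (p - 1)) := by
    intro v hv
    have h1 := charpoly_eq K A p f hf v (hdeg v hv)
    have : Nonempty (Fin p) := ⟨⟨0, hp.pos⟩⟩
    rw [Matrix.trace_eq_neg_charpoly_coeff, h1, coeff_map, Fintype.card_fin, map_neg]
  have htr0 : ∀ a : K, Matrix.trace (f (algebraMap K A a)) = 0 := by
    intro a
    rw [AlgHom.commutes, Matrix.algebraMap_eq_diagonal, Matrix.trace_diagonal]
    have : CharP (AlgebraicClosure K) p := charP_of_injective_algebraMap
      (FaithfulSMul.algebraMap_injective K (AlgebraicClosure K)) p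
    simp
  have hex : ∀ v : A, ∃ a : K, algebraMap K (AlgebraicClosure K) a = Matrix.trace (f v) := by
    intro v
    by_cases hv : v ∈ (algebraMap K A).range
    · obtain ⟨a, rfl⟩ := hv
      exact ⟨0, by rw [htr0, map_zero]⟩
    · exact ⟨_, (htr v hv).symm⟩
  choose T hT using hex
  have hinj := FaithfulSMul.algebraMap_injective K (AlgebraicClosure K)
  refine ⟨{ toFun := T, map_add' := ?_, map_smul' := ?_ }, ?_, ?_, ?_⟩
  · intro x y
    apply hinj
    rw [map_add, hT, hT, hT, map_add, Matrix.trace_add]
  · intro a x
    apply hinj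
    rw [hT, map_smul, Matrix.trace_smul, RingHom.id_apply, smul_eq_mul, map_mul, hT,
      Algebra.smul_def]
  · intro x y
    apply hinj
    change algebraMap K _ (T (x * y)) = algebraMap K _ (T (y * x))
    rw [hT, hT, map_mul, map_mul, Matrix.trace_mul_comm]
  · intro a
    apply hinj
    change algebraMap K _ (T _) = _
    rw [hT, htr0, map_zero]
  · intro v hv
    refine ⟨hdeg v hv, ?_⟩
    apply hinj
    change algebraMap K _ (T _) = _
    rw [hT, htr v hv]

end

end K844.RedTr
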