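import Mathlib.Algebra.Polynomial.Laurent
import Mathlib.RingTheory.TensorProduct.Free
import Mathlib.LinearAlgebra.Basis.VectorSpace
import Mathlib.RingTheory.Flat.Basic
import Mathlib.RingTheory.Flat.FaithfullyFlat.Basic
import Mathlib.Algebra.Polynomial.Splits
import Mathlib.GroupTheory.Index
import Mathlib.Algebra.GroupWithZero.Units.Fintype
import Mathlib.RingTheory.Polynomial.Basic
import Mathlib.GroupTheory.OrderOfElement
import Mathlib.Algebra.Polynomial.RingDivision

/-!
# Finite groups of automorphisms of a twisted form of `L[T, T⁻¹]`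
-/

set_option autoImplicit false
universe u v w

open scoped TensorProduct LaurentPolynomial
open LaurentPolynomial

namespace K844.TorAut

section Units

variable (L : Type u) [Field L]

theorem unit_form (f : L[T;T⁻¹]) (hf : IsUnit f) : ∃ c : L, c ≠ 0 ∧ ∃ n : ℤ, f = C c * T n := by
  obtain ⟨g, hfg⟩ := hf.exists_right_inv
  obtain ⟨n, f', hf'⟩ := LaurentPolynomial.exists_T_pow f
  obtain ⟨m, g', hg'⟩ := LaurentPolynomial.exists_T_pow g
  have h1 : Polynomial.toLaurent (f' * g') = Polynomial.toLaurent ((Polynomial.X : Polynomial L) ^ (n + m)) := by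
    rw [map_mul, hf', hg', Polynomial.toLaurent_X_pow]
    push_cast
    rw [T_add]
    calc f * T n * (g * T m) = (f * g) * (T n * T m) := by ring
      _ = _ := by rw [hfg, one_mul]
  have h2 := Polynomial.toLaurent_injective h1
  have h3 : f' ∣ (Polynomial.X : Polynomial L) ^ (n + m) := ⟨g', h2.symm⟩
  obtain ⟨i, -, hi⟩ := (dvd_prime_pow Polynomial.prime_X _).1 h3
  obtain ⟨u, hu⟩ := hi.symm
  obtain ⟨c, hc, hc'⟩ := Polynomial.isUnit_iff.1 u.isUnit
  refine ⟨c, hc.ne_zero, (i : ℤ) - n, ?_⟩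
  have h4 : f = Polynomial.toLaurent f' * T (-n) := by
    rw [hf', mul_assoc, ← T_add, add_neg_cancel, T_zero, mul_one]
  rw [h4, ← hu, ← hc', map_mul, Polynomial.toLaurent_X_pow, Polynomial.toLaurent_C, T_sub]
  ring

theorem form_inj {c c' : L} (hc : c ≠ 0) (hc' : c' ≠ 0) {n n' : ℤ}
    (h : (C c * T n : L[T;T⁻¹]) = C c' * T n') : c = c' ∧ n = n' := by
  have h1 : n = n' := by
    have h2 := congrArg LaurentPolynomial.degree h
    rw [degree_C_mul_T n c hc, degree_C_mul_T n' c' hc'] at h2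
    exact_mod_cast h2
  subst h1
  refine ⟨?_, rfl⟩
  have h3 := congrArg (· * T (-n)) h
  simp only [mul_assoc, ← T_add, add_neg_cancel, T_zero, mul_one] at h3
  have h4 := congrArg (fun f => f.coeff 0) h3
  simpa using h4

/-- the unit `T` -/
noncomputable def TU : (L[T;T⁻¹])ˣ := ⟨T 1, T (-1), by rw [← T_add]; simp, by rw [← T_add]; simp⟩

/-- the constant units -/
noncomputable def CU : Lˣ →* (L[T;T⁻¹])ˣ := Units.map (C : L →+* L[T;T⁻¹]).toMonoidHom

theorem CU_val (c : Lˣ) : (CU L c).val = C c.val := rfl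

theorem TU_zpow (n : ℤ) : (TU L ^ n).val = T n := by
  induction n with
  | zero => simp
  | succ n ih => 
    rw [zpow_add_one, Units.val_mul, ih, T_add]; rfl
  | pred n ih =>
    rw [zpow_sub_one, Units.val_mul, ih, T_sub]; rfl

theorem exists_form (u : (L[T;T⁻¹])ˣ) : ∃ (c : Lˣ) (n : ℤ), u = CU L c * TU L ^ n := by
  obtain ⟨c, hc, n, h⟩ := unit_form L u.val u.isUnit
  refine ⟨Units.mk0 c hc, n, ?_⟩
  ext
  rw [Units.val_mul, TU_zpow, CU_val, h]
  rfl

theorem form_inj' {c c' : Lˣ} {n n' : ℤ} (h : CU L c * TU L ^ n = CU L c' * TU L ^ n') :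
    c = c' ∧ n = n' := by
  have h1 := congrArg Units.val h
  rw [Units.val_mul, Units.val_mul, TU_zpow, TU_zpow, CU_val, CU_val] at h1
  obtain ⟨h2, h3⟩ := form_inj L c.ne_zero c'.ne_zero h1
  exact ⟨Units.ext h2, h3⟩

end Units

section Main

variable (K : Type u) [Field K] (L : Type v) [Field L] [Algebra K L] (R : Type w) [CommRing R]
  [Algebra K R] (σ : L →ₐ[K] L) (e : L[T;T⁻¹] ≃ₐ[L] L ⊗[K] R)

/-- the base change of an automorphism -/
noncomputable def bch (g : R ≃ₐ[K] R) : L ⊗[K] R →ₐ[L] L ⊗[K] R :=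
  Algebra.TensorProduct.map (AlgHom.id L L) g.toAlgHom

theorem bch_tmul (g : R ≃ₐ[K] R) (l : L) (r : R) : bch K L R g (l ⊗ₜ r) = l ⊗ₜ (g r) := rfl

theorem bch_mul (g h : R ≃ₐ[K] R) : bch K L R (g * h) = (bch K L R g).comp (bch K L R h) := by
  apply Algebra.TensorProduct.ext'
  intro a b
  rfl

/-- the automorphism of the Laurent polynomials -/
noncomputable def phi (g : R ≃ₐ[K] R) : L[T;T⁻¹] →ₐ[L] L[T;T⁻¹] :=
  (e.symm.toAlgHom.comp (bch K L R g)).comp e.toAlgHom

theorem phi_apply (g : R ≃ₐ[K] R) (x : L[T;T⁻¹]) : phi K L R e g x = e.symm (bch K L R g (e x)) := rfl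

theorem phi_mul (g h : R ≃ₐ[K] R) (x : L[T;T⁻¹]) :
    phi K L R e (g * h) x = phi K L R e g (phi K L R e h x) := by
  rw [phi_apply, phi_apply, phi_apply, bch_mul, e.apply_symm_apply, AlgHom.comp_apply]

theorem phi_one (x : L[T;T⁻¹]) : phi K L R e 1 x = x := by
  rw [phi_apply]
  have : bch K L R 1 = AlgHom.id L _ := by
    apply Algebra.TensorProduct.ext'
    intro a b
    rfl
  rw [this, AlgHom.id_apply, e.symm_apply_apply]

/-- the descent involution -/
noncomputable def tau : L[T;T⁻¹] →+* L[T;T⁻¹] :=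
  (e.symm.toRingEquiv.toRingHom.comp (Algebra.TensorProduct.map σ (AlgHom.id K R)).toRingHom).comp
    e.toRingEquiv.toRingHom

theorem tau_apply (x : L[T;T⁻¹]) : tau K L R σ e x =
    e.symm (Algebra.TensorProduct.map σ (AlgHom.id K R) (e x)) := rfl

theorem tau_C (c : L) : tau K L R σ e (C c) = C (σ c) := by
  rw [tau_apply, LaurentPolynomial.C_eq_algebraMap, AlgEquiv.commutes,
    Algebra.TensorProduct.algebraMap_apply, Algebra.TensorProduct.map_tmul, map_one,
    LaurentPolynomial.C_eq_algebraMap]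
  exact e.symm.commutes (σ c)

theorem tau_phi (g : R ≃ₐ[K] R) (x : L[T;T⁻¹]) :
    tau K L R σ e (phi K L R e g x) = phi K L R e g (tau K L R σ e x) := by
  rw [tau_apply, phi_apply, phi_apply, tau_apply, e.apply_symm_apply, e.apply_symm_apply]
  congr 1
  generalize e x = y
  induction y with
  | zero => simp
  | add x y hx hy => simp only [map_add, hx, hy]
  | tmul a b => rfl

/-- on units -/
noncomputable def Phi (g : R ≃ₐ[K] R) : (L[T;T⁻¹])ˣ →* (L[T;T⁻¹])ˣ :=
  Units.map (phi K L R e g).toRingHom.toMonoidHom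

noncomputable def Tau : (L[T;T⁻¹])ˣ →* (L[T;T⁻¹])ˣ :=
  Units.map (tau K L R σ e).toMonoidHom

theorem Phi_CU (g : R ≃ₐ[K] R) (c : Lˣ) : Phi K L R e g (CU L c) = CU L c := by
  refine Units.ext ?_
  change phi K L R e g (C c.val) = C c.val
  rw [LaurentPolynomial.C_eq_algebraMap, AlgHom.commutes]

theorem Tau_CU (c : Lˣ) : Tau K L R σ e (CU L c) = CU L (Units.map σ.toRingHom.toMonoidHom c) := by
  exact Units.ext (tau_C K L R σ e c.val)

theorem Phi_mul (g h : R ≃ₐ[K] R) (x : (L[T;T⁻¹])ˣ) :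
    Phi K L R e (g * h) x = Phi K L R e g (Phi K L R e h x) := by
  exact Units.ext (phi_mul K L R e g h x)

theorem Phi_one (x : (L[T;T⁻¹])ˣ) : Phi K L R e 1 x = x := by
  exact Units.ext (phi_one K L R e x)

theorem Tau_Phi (g : R ≃ₐ[K] R) (x : (L[T;T⁻¹])ˣ) :
    Tau K L R σ e (Phi K L R e g x) = Phi K L R e g (Tau K L R σ e x) := by
  exact Units.ext (tau_phi K L R σ e g x)

theorem eq_one_of_Phi (g : R ≃ₐ[K] R) (h : Phi K L R e g (TU L) = TU L) : g = 1 := by
  have h1 : phi K L R e g (T 1) = T 1 := congrArg Units.val h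
  have hT : ∀ n : ℤ, phi K L R e g (T n) = T n := by
    intro n
    have h2 : Phi K L R e g (TU L ^ n) = TU L ^ n := by rw [map_zpow, h]
    have h3 := congrArg Units.val h2
    rw [TU_zpow] at h3
    rw [← h3]
    conv_lhs => rw [h3]
    rw [← TU_zpow]
    rfl
  have h2 : ∀ x, phi K L R e g x = x := by
    intro x
    induction x using LaurentPolynomial.induction_on' with
    | add p q hp hq => rw [map_add, hp, hq]
    | C_mul_T n a => rw [map_mul, hT, LaurentPolynomial.C_eq_algebraMap, AlgHom.commutes]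
  have h3 : ∀ y, bch K L R g y = y := by
    intro y
    have := h2 (e.symm y)
    rw [phi_apply, e.apply_symm_apply] at this
    exact e.symm.injective this
  ext r
  have h4 := h3 (1 ⊗ₜ r)
  rw [bch_tmul] at h4
  have h5 : Function.Injective (Algebra.TensorProduct.includeRight : R →ₐ[K] L ⊗[K] R) :=
    Algebra.TensorProduct.includeRight_injective (FaithfulSMul.algebraMap_injective K L)
  exact h5 h4

theorem natCard_le_two_of_sq {M : Type*} (f : M → L) (hf : Function.Injective f)
    (h : ∀ x, f x ^ 2 = 1) : Nat.card M ≤ 2 := by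
  classical
  have h1 : ∀ x, f x = 1 ∨ f x = -1 := fun x => mul_self_eq_one_iff.1 (by rw [← sq]; exact h x)
  let f' : M → ({1, -1} : Finset L) := fun x => ⟨f x, by
    rw [Finset.mem_insert, Finset.mem_singleton]; exact h1 x⟩
  have hf' : Function.Injective f' := fun x y hxy => hf (congrArg Subtype.val hxy)
  refine (Nat.card_le_card_of_injective f' hf').trans ?_
  rw [Nat.card_eq_fintype_card, Fintype.card_coe]
  exact Finset.card_le_two

/-- Main theorem: finite groups of automorphisms have exponent two and at most four elements. -/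
theorem main (hK : ∀ n : ℕ, 0 < n → (Polynomial.X ^ n - 1 : Polynomial K).Splits)
    (hτ : Algebra.TensorProduct.map σ (AlgHom.id K R) (e (T 1)) = e (T (-1)))
    (G : Subgroup (R ≃ₐ[K] R)) [Finite G] : (∀ g ∈ G, g ^ 2 = 1) ∧ Nat.card G ≤ 4 := by
  -- the descent involution inverts `T`
  have hTau : Tau K L R σ e (TU L) = (TU L)⁻¹ := by
    refine Units.ext ?_
    change tau K L R σ e (T 1) = T (-1)
    rw [tau_apply, hτ, e.symm_apply_apply]
  -- the form of the automorphisms
  choose c n hcn using fun g : R ≃ₐ[K] R => exists_form L (Phi K L R e g (TU L))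
  have hmul : ∀ g h : R ≃ₐ[K] R, c (g * h) = c h * c g ^ (n h) ∧ n (g * h) = n g * n h := by
    intro g h
    have h1 := Phi_mul K L R e g h (TU L)
    rw [hcn, hcn h, map_mul, Phi_CU, map_zpow, hcn g, mul_zpow, ← map_zpow, ← mul_assoc, ← map_mul,
      ← zpow_mul] at h1
    exact form_inj' L h1
  have hone : c 1 = 1 ∧ n 1 = 1 := by
    have h1 := Phi_one K L R e (TU L)
    rw [hcn] at h1
    have h2 : CU L (c 1) * TU L ^ n 1 = CU L 1 * TU L ^ (1 : ℤ) := by
      rw [h1, map_one, one_mul, zpow_one]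
    exact form_inj' L h2
  have hn : ∀ g, n g = 1 ∨ n g = -1 := by
    intro g
    have h1 := (hmul g g⁻¹).2
    rw [mul_inv_cancel, hone.2] at h1
    exact Int.eq_one_or_neg_one_of_mul_eq_one h1.symm
  have hσ : ∀ g, Units.map σ.toRingHom.toMonoidHom (c g) = (c g)⁻¹ := by
    intro g
    have h1 := Tau_Phi K L R σ e g (TU L)
    rw [hcn g, map_mul, map_zpow, hTau, Tau_CU, map_inv, hcn g, mul_inv, inv_zpow, ← map_inv] at h1
    rw [← zpow_neg] at h1
    exact (form_inj' L h1).1
  have hfaith : ∀ g, c g = 1 → n g = 1 → g = 1 := by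
    intro g h1 h2
    apply eq_one_of_Phi K L R e g
    rw [hcn, h1, h2, map_one, one_mul, zpow_one]
  -- constants of elements of finite order
  have hroot : ∀ g ∈ G, n g = 1 → (c g) ^ 2 = 1 := by
    intro g hg hng
    have hfin : IsOfFinOrder (⟨g, hg⟩ : G) := isOfFinOrder_of_finite _
    obtain ⟨m, hm, hgm⟩ := (isOfFinOrder_iff_pow_eq_one).1 hfin
    have hgm' : g ^ m = 1 := congrArg Subtype.val hgm
    have hpow : ∀ k : ℕ, c (g ^ k) = c g ^ k ∧ n (g ^ k) = 1 := by
      intro k
      induction k with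
      | zero => simpa using hone
      | succ k ih =>
        rw [pow_succ', (hmul _ _).1, (hmul _ _).2, ih.1, ih.2, hng, zpow_one, ← pow_succ]
        simp
    have hcm : c g ^ m = 1 := by rw [← (hpow m).1, hgm', hone.1]
    have hcm' : ((c g : Lˣ) : L) ^ m = 1 := by
      rw [← Units.val_pow_eq_pow_val, hcm, Units.val_one]
    -- the root lies in `K`
    have hex : ∃ a : K, algebraMap K L a = (c g : L) := by
      have hs := hK m hm
      have h0 : (Polynomial.X ^ m - 1 : Polynomial K) ≠ 0 := by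
        have := Polynomial.X_pow_sub_C_ne_zero hm (1 : K)
        simpa using this
      have h1 : ((Polynomial.X ^ m - 1 : Polynomial K).map (algebraMap K L)).IsRoot (c g : L) := by
        simp [hcm']
      exact hs.mem_range_of_isRoot h0 h1
    obtain ⟨a, ha⟩ := hex
    have h2 : Units.map σ.toRingHom.toMonoidHom (c g) = c g := by
      refine Units.ext ?_
      change σ (c g : L) = (c g : L)
      rw [← ha, AlgHom.commutes]
    have h3 := hσ g
    rw [h2] at h3
    rw [sq]
    nth_rewrite 1 [h3]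
    rw [inv_mul_cancel]
  have hsq : ∀ g ∈ G, g ^ 2 = 1 := by
    intro g hg
    apply hfaith
    · rw [sq, (hmul g g).1]
      rcases hn g with h | h
      · rw [h, zpow_one, ← sq, hroot g hg h]
      · rw [h, zpow_neg, zpow_one, mul_inv_cancel]
    · rw [sq, (hmul g g).2]
      rcases hn g with h | h
      · rw [h, one_mul]
      · rw [h]; norm_num
  refine ⟨hsq, ?_⟩
  -- counting
  let ν : G →* ℤ := 
    { toFun := fun g => n g.1
      map_one' := hone.2
      map_mul' := fun g h => (hmul g.1 h.1).2 }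
  let ν' : G →* ℤˣ := (Units.map (MonoidHom.id ℤ)).comp ν.toHomUnits
  have hν' : ∀ g : G, ((ν' g : ℤˣ) : ℤ) = n g.1 := fun _ => rfl
  have h1 : Nat.card ν'.ker * ν'.ker.index = Nat.card G := Subgroup.card_mul_index _
  have h2 : ν'.ker.index ≤ 2 := by
    rw [Subgroup.index_ker]
    refine (Nat.card_le_card_of_injective _ Subtype.val_injective).trans ?_
    rw [Nat.card_eq_fintype_card, Fintype.card_units_int]
  have h3 : Nat.card ν'.ker ≤ 2 := by
    apply natCard_le_two_of_sq L (fun g : ν'.ker => ((c g.1.1 : Lˣ) : L))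
    · intro g h hgh
      have hg1 : n g.1.1 = 1 := by
        rw [← hν']
        have : ν' g.1 = 1 := g.2
        rw [this]; rfl
      have hh1 : n h.1.1 = 1 := by
        rw [← hν']
        have : ν' h.1 = 1 := h.2
        rw [this]; rfl
      have hc : c g.1.1 = c h.1.1 := Units.ext hgh
      have h4 : (g.1.1)⁻¹ * h.1.1 = 1 := by
        have h5 := hmul (g.1.1)⁻¹ g.1.1
        rw [inv_mul_cancel, hone.1, hone.2, hg1, mul_one, zpow_one] at h5
        apply hfaith
        · rw [(hmul _ _).1, hh1, zpow_one, ← hc, ← h5.1]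
        · rw [(hmul _ _).2, hh1, ← h5.2, mul_one]
      have h6 : g.1.1 = h.1.1 := by
        rw [inv_mul_eq_one] at h4; exact h4
      exact Subtype.ext (Subtype.ext h6)
    · intro g
      have hg1 : n g.1.1 = 1 := by
        rw [← hν']
        have : ν' g.1 = 1 := g.2
        rw [this]; rfl
      have := hroot g.1.1 g.1.2 hg1
      change ((c g.1.1 : Lˣ) : L) ^ 2 = 1
      rw [← Units.val_pow_eq_pow_val, this, Units.val_one]
  calc Nat.card G = Nat.card ν'.ker * ν'.ker.index := h1.symm
    _ ≤ 2 * 2 := Nat.mul_le_mul h3 h2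
    _ = 4 := rfl

end Main

end K844.TorAut
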