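import Groth.Agent.BddFin.K844.TorAut
import Mathlib.Algebra.Algebra.Subalgebra.Lattice
import Mathlib.RingTheory.Adjoin.Basic
import Mathlib.Tactic.FieldSimp
import Mathlib.Tactic.LinearCombination

/-!
# The twisted form of `L[T, T⁻¹]` attached to a binary quadratic form
-/

set_option autoImplicit false
universe u v w

open scoped TensorProduct LaurentPolynomial
open LaurentPolynomial

namespace K844.TorIso

variable (K : Type u) [Field K] (L : Type v) [Field L] [Algebra K L] (R : Type w) [CommRing R]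
  [Algebra K R] (σ : L →ₐ[K] L) (a : K) (α β : L) (ha : a ≠ 0) (hαβ : α ≠ β)
  (e₁ e₂ e₃ : R)

/-- The element `a (X - α Y)² / q`. -/
noncomputable def tt : L ⊗[K] R :=
  (algebraMap K L a) ⊗ₜ e₁ - (algebraMap K L a * (2 * α)) ⊗ₜ e₂ + (algebraMap K L a * α ^ 2) ⊗ₜ e₃

variable (h1 : (1 : L) ⊗ₜ[K] (1 : R) = (algebraMap K L a) ⊗ₜ e₁ -
    (algebraMap K L a * (α + β)) ⊗ₜ e₂ + (algebraMap K L a * (α * β)) ⊗ₜ e₃)
  (h2 : e₁ * e₃ = e₂ * e₂)

theorem smul_tmul' (l : L) (r : R) : l ⊗ₜ[K] r = l • (1 : L) ⊗ₜ[K] r := by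
  rw [TensorProduct.smul_tmul', smul_eq_mul, mul_one]

include h1 h2 in
theorem tt_mul : tt K L R a α e₁ e₂ e₃ * tt K L R a β e₁ e₂ e₃ = 1 := by
  have h3 : (1 : L ⊗[K] R) = (1 : L) ⊗ₜ[K] (1 : R) * (1 : L) ⊗ₜ[K] (1 : R) := by
    rw [← Algebra.TensorProduct.one_def, one_mul]
  rw [h3, h1]
  unfold tt
  rw [smul_tmul' K L R _ e₁, smul_tmul' K L R _ e₂, smul_tmul' K L R _ e₃,
    smul_tmul' K L R (_ * (2 * β)) e₂, smul_tmul' K L R (_ * β ^ 2) e₃,
    smul_tmul' K L R (_ * (α + β)) e₂, smul_tmul' K L R (_ * (α * β)) e₃]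
  have h4 : (1 : L) ⊗ₜ[K] e₁ * (1 : L) ⊗ₜ[K] e₃ = (1 : L) ⊗ₜ[K] e₂ * (1 : L) ⊗ₜ[K] e₂ := by
    rw [Algebra.TensorProduct.tmul_mul_tmul, Algebra.TensorProduct.tmul_mul_tmul, h2]
  generalize (1 : L) ⊗ₜ[K] e₁ = x₁ at *
  generalize (1 : L) ⊗ₜ[K] e₂ = x₂ at *
  generalize (1 : L) ⊗ₜ[K] e₃ = x₃ at *
  simp only [Algebra.smul_def, map_mul, map_add, map_pow, map_ofNat]
  linear_combination ((algebraMap L (L ⊗[K] R) (algebraMap K L a)) ^ 2 *
    ((algebraMap L (L ⊗[K] R) α) - (algebraMap L (L ⊗[K] R) β)) ^ 2) * h4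

theorem map_tt (hσ : σ α = β) :
    Algebra.TensorProduct.map σ (AlgHom.id K R) (tt K L R a α e₁ e₂ e₃) =
      tt K L R a β e₁ e₂ e₃ := by
  simp only [tt, map_add, map_sub, Algebra.TensorProduct.map_tmul, map_mul, map_pow, AlgHom.commutes,
    hσ, map_ofNat, AlgHom.id_apply]

/-- the unit -/
noncomputable def ttU : (L ⊗[K] R)ˣ where
  val := tt K L R a α e₁ e₂ e₃
  inv := tt K L R a β e₁ e₂ e₃
  val_inv := tt_mul K L R a α β e₁ e₂ e₃ h1 h2
  inv_val := by rw [mul_comm]; exact tt_mul K L R a α β e₁ e₂ e₃ h1 h2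

/-- the map from Laurent polynomials -/
noncomputable def chi : L[T;T⁻¹] →ₐ[L] L ⊗[K] R :=
  { LaurentPolynomial.eval₂ (algebraMap L (L ⊗[K] R)) (ttU K L R a α β e₁ e₂ e₃ h1 h2) with
    commutes' := fun l => by
      change LaurentPolynomial.eval₂ _ _ (algebraMap L _ l) = _
      rw [← LaurentPolynomial.C_eq_algebraMap, LaurentPolynomial.eval₂_C] }

theorem chi_T (n : ℤ) : chi K L R a α β e₁ e₂ e₃ h1 h2 (T n) =
    ((ttU K L R a α β e₁ e₂ e₃ h1 h2 ^ n : (L ⊗[K] R)ˣ) : L ⊗[K] R) :=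
  LaurentPolynomial.eval₂_T _ _ n

theorem chi_T_one : chi K L R a α β e₁ e₂ e₃ h1 h2 (T 1) = tt K L R a α e₁ e₂ e₃ := by
  rw [chi_T, zpow_one]; rfl

theorem chi_T_neg_one : chi K L R a α β e₁ e₂ e₃ h1 h2 (T (-1)) = tt K L R a β e₁ e₂ e₃ := by
  rw [chi_T, zpow_neg_one]; rfl

include ha hαβ in
theorem chi_surjective (hadj : Algebra.adjoin K ({e₁, e₂, e₃} : Set R) = ⊤) :
    Function.Surjective (chi K L R a α β e₁ e₂ e₃ h1 h2) := by
  have hα : algebraMap K L a ≠ 0 := by simpa using ha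
  have hd : α - β ≠ 0 := sub_ne_zero.2 hαβ
  set χ := chi K L R a α β e₁ e₂ e₃ h1 h2 with hχ
  have ht : tt K L R a α e₁ e₂ e₃ ∈ χ.range := ⟨T 1, chi_T_one K L R a α β e₁ e₂ e₃ h1 h2⟩
  have ht' : tt K L R a β e₁ e₂ e₃ ∈ χ.range := ⟨T (-1), chi_T_neg_one K L R a α β e₁ e₂ e₃ h1 h2⟩
  have hone : (1 : L ⊗[K] R) ∈ χ.range := one_mem _
  have hsm : ∀ (c : L) (x : L ⊗[K] R), x ∈ χ.range → c • x ∈ χ.range := fun c x hx =>
    Subalgebra.smul_mem _ hx c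
  -- the element `e₃`
  have h1' : (1 : L ⊗[K] R) = (algebraMap K L a) ⊗ₜ e₁ -
    (algebraMap K L a * (α + β)) ⊗ₜ e₂ + (algebraMap K L a * (α * β)) ⊗ₜ e₃ := h1
  have h3 : (1 : L) ⊗ₜ[K] e₃ ∈ χ.range := by
    have : (1 : L) ⊗ₜ[K] e₃ = ((algebraMap K L a) * (α - β) ^ 2)⁻¹ •
      (tt K L R a α e₁ e₂ e₃ + tt K L R a β e₁ e₂ e₃ - (2 : L) • 1) := by
      rw [h1']
      unfold tt
      rw [smul_tmul' K L R _ e₁, smul_tmul' K L R (_ * (2 * α)) e₂, smul_tmul' K L R (_ * α ^ 2) e₃,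
        smul_tmul' K L R (_ * (2 * β)) e₂, smul_tmul' K L R (_ * β ^ 2) e₃,
        smul_tmul' K L R (_ * (α + β)) e₂, smul_tmul' K L R (_ * (α * β)) e₃]
      simp only [smul_sub, smul_add, smul_smul]
      match_scalars <;> field_simp <;> ring
    rw [this]
    exact hsm _ _ (sub_mem (add_mem ht ht') (hsm _ _ hone))
  have h2' : (1 : L) ⊗ₜ[K] e₂ ∈ χ.range := by
    have : (1 : L) ⊗ₜ[K] e₂ = ((algebraMap K L a) * (β - α))⁻¹ •
      (tt K L R a α e₁ e₂ e₃ - 1 - (algebraMap K L a * (α ^ 2 - α * β)) • (1 : L) ⊗ₜ[K] e₃) := by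
      rw [h1']
      unfold tt
      rw [smul_tmul' K L R _ e₁, smul_tmul' K L R (_ * (2 * α)) e₂, smul_tmul' K L R (_ * α ^ 2) e₃,
        smul_tmul' K L R (_ * (α + β)) e₂, smul_tmul' K L R (_ * (α * β)) e₃]
      simp only [smul_sub, smul_add, smul_smul]
      have hd' : β - α ≠ 0 := sub_ne_zero.2 hαβ.symm
      match_scalars <;> field_simp <;> ring
    rw [this]
    exact hsm _ _ (sub_mem (sub_mem ht hone) (hsm _ _ h3))
  have h1'' : (1 : L) ⊗ₜ[K] e₁ ∈ χ.range := by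
    have : (1 : L) ⊗ₜ[K] e₁ = (algebraMap K L a)⁻¹ • (1 : L ⊗[K] R) +
      (α + β) • (1 : L) ⊗ₜ[K] e₂ - (α * β) • (1 : L) ⊗ₜ[K] e₃ := by
      rw [h1', smul_tmul' K L R (algebraMap K L a) e₁,
        smul_tmul' K L R (_ * (α + β)) e₂, smul_tmul' K L R (_ * (α * β)) e₃]
      simp only [smul_sub, smul_add, smul_smul]
      match_scalars <;> field_simp <;> ring
    rw [this]
    exact sub_mem (add_mem (hsm _ _ hone) (hsm _ _ h2')) (hsm _ _ h3)
  have hR : ∀ r : R, (1 : L) ⊗ₜ[K] r ∈ χ.range := by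
    intro r
    have hr : r ∈ Algebra.adjoin K ({e₁, e₂, e₃} : Set R) := by rw [hadj]; trivial
    have hle : Algebra.adjoin K ({e₁, e₂, e₃} : Set R) ≤
      (χ.range.restrictScalars K).comap (Algebra.TensorProduct.includeRight : R →ₐ[K] L ⊗[K] R) := by
      rw [Algebra.adjoin_le_iff]
      rintro x (rfl | rfl | rfl)
      · exact h1''
      · exact h2'
      · exact h3
    exact hle hr
  intro y
  change y ∈ χ.range
  induction y with
  | zero => exact zero_mem _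
  | add x y hx hy => exact add_mem hx hy
  | tmul l r => rw [smul_tmul' K L R l r]; exact hsm _ _ (hR r)

/-- the map to Laurent polynomials induced by a `K`-algebra map -/
noncomputable def psi (ρ : R →ₐ[K] L[T;T⁻¹]) : L ⊗[K] R →ₐ[L] L[T;T⁻¹] :=
  Algebra.TensorProduct.lift (Algebra.ofId L _) ρ (fun _ _ => mul_comm _ _)

theorem psi_tmul (ρ : R →ₐ[K] L[T;T⁻¹]) (l : L) (r : R) : psi K L R ρ (l ⊗ₜ r) = C l * ρ r := rfl

include ha hαβ h1 h2 in
/-- The isomorphism. -/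
theorem exists_iso (hadj : Algebra.adjoin K ({e₁, e₂, e₃} : Set R) = ⊤) (ρ : R →ₐ[K] L[T;T⁻¹])
    (hρ : psi K L R ρ (tt K L R a α e₁ e₂ e₃) = T 1) (hσ : σ α = β) :
    ∃ e : L[T;T⁻¹] ≃ₐ[L] L ⊗[K] R,
      Algebra.TensorProduct.map σ (AlgHom.id K R) (e (T 1)) = e (T (-1)) := by
  have hcomp : (psi K L R ρ).comp (chi K L R a α β e₁ e₂ e₃ h1 h2) = AlgHom.id L _ := by
    have hT : ∀ n : ℤ, psi K L R ρ (chi K L R a α β e₁ e₂ e₃ h1 h2 (T n)) = T n := by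
      intro n
      have h4 : Units.map (psi K L R ρ).toRingHom.toMonoidHom (ttU K L R a α β e₁ e₂ e₃ h1 h2) =
          K844.TorAut.TU L := by
        refine Units.ext ?_
        exact hρ
      rw [chi_T, ← K844.TorAut.TU_zpow, ← h4, ← map_zpow]
      rfl
    apply AlgHom.ext
    intro x
    change psi K L R ρ (chi K L R a α β e₁ e₂ e₃ h1 h2 x) = x
    induction x using LaurentPolynomial.induction_on' with
    | add p q hp hq => rw [map_add, map_add, hp, hq]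
    | C_mul_T n a => 
      rw [map_mul, map_mul, hT, LaurentPolynomial.C_eq_algebraMap, AlgHom.commutes, AlgHom.commutes]
  have hinj : Function.Injective (chi K L R a α β e₁ e₂ e₃ h1 h2) := by
    intro x y hxy
    have h5 := congrArg (psi K L R ρ) hxy
    rw [← AlgHom.comp_apply, ← AlgHom.comp_apply, hcomp] at h5
    exact h5
  refine ⟨AlgEquiv.ofBijective (chi K L R a α β e₁ e₂ e₃ h1 h2) ⟨hinj,
    chi_surjective K L R a α β ha hαβ e₁ e₂ e₃ h1 h2 hadj⟩, ?_⟩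
  change Algebra.TensorProduct.map σ (AlgHom.id K R) (chi K L R a α β e₁ e₂ e₃ h1 h2 (T 1)) =
    chi K L R a α β e₁ e₂ e₃ h1 h2 (T (-1))
  rw [chi_T_one, chi_T_neg_one, map_tt K L R σ a α β e₁ e₂ e₃ hσ]

end K844.TorIso
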